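import Mathlib.Algebra.MvPolynomial.PDeriv
import Mathlib.Algebra.CharP.Lemmas
import Mathlib.RingTheory.MvPolynomial.Homogeneous
import Mathlib.RingTheory.MvPolynomial.EulerIdentity
import Mathlib.Algebra.MvPolynomial.NoZeroDivisors
import Mathlib.RingTheory.Polynomial.UniqueFactorization
import Mathlib.LinearAlgebra.Projectivization.Basic
import Mathlib.FieldTheory.IsAlgClosed.Basic
import Mathlib.GroupTheory.CosetCover
import Mathlib.LinearAlgebra.Dimension.Constructions
import Mathlib.LinearAlgebra.FiniteDimensional.Lemmas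

/-!
# Singular points of reduced plane curves
-/

set_option autoImplicit false
universe u
open MvPolynomial

namespace K324.PlaneSing

section Perfect

variable {σ : Type*} {k : Type*} [Field k] [IsAlgClosed k]

/-- A polynomial over an algebraically closed field with vanishing partial derivatives is not
irreducible. -/
theorem not_irreducible_of_pderiv_eq_zero (h : MvPolynomial σ k) (hd : ∀ i, pderiv i h = 0) :
    ¬ Irreducible h := by
  classical
  obtain ⟨p, hp⟩ := CharP.exists k
  -- all exponents are divisible by `p`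
  have hexp : ∀ m ∈ h.support, ∀ i, p ∣ m i := by
    intro m hm i
    by_cases h0 : m i = 0
    · rw [h0]; exact dvd_zero p
    have h1 := coeff_pderiv (i := i) h (m - Finsupp.single i 1)
    rw [hd i, coeff_zero] at h1
    have h2 : m - Finsupp.single i 1 + Finsupp.single i 1 = m := by
      apply tsub_add_cancel_of_le
      rw [Finsupp.single_le_iff]
      omega
    rw [h2] at h1
    have h3 : (m - Finsupp.single i 1 : σ →₀ ℕ) i + 1 = m i := by
      have := DFunLike.congr_fun h2 i
      simpa using this
    have h4 : (((m - Finsupp.single i 1 : σ →₀ ℕ) i : ℕ) : k) + 1 = (m i : k) := by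
      rw [← h3]; push_cast; rfl
    rw [h4] at h1
    rcases mul_eq_zero.mp h1.symm with h5 | h5
    · exact absurd h5 (mem_support_iff.mp hm)
    · exact (CharP.cast_eq_zero_iff k p (m i)).mp h5
  rcases CharP.char_is_prime_or_zero k p with hprime | hzero
  · have hfact : Fact p.Prime := ⟨hprime⟩
    choose r hr using fun c : k => IsAlgClosed.exists_pow_nat_eq c hprime.pos
    let g : MvPolynomial σ k := ∑ m ∈ h.support,
      monomial (m.mapRange (fun n => n / p) (Nat.zero_div p)) (r (h.coeff m))
    have hg : g ^ p = h := by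
      rw [sum_pow_char p]
      conv_rhs => rw [h.as_sum]
      refine Finset.sum_congr rfl fun m hm => ?_
      rw [monomial_pow, hr]
      have hpm : p • m.mapRange (fun n => n / p) (Nat.zero_div p) = m := by
        ext i
        rw [Finsupp.smul_apply, Finsupp.mapRange_apply, smul_eq_mul]
        exact Nat.mul_div_cancel' (hexp m hm i)
      rw [hpm]
    rw [← hg]
    exact not_irreducible_pow hprime.one_lt.ne'
  · subst hzero
    have h0 : h = C (h.coeff 0) := by
      ext m
      rw [coeff_C]
      split_ifs with hm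
      · rw [hm]
      · by_contra hne
        apply hm
        ext i
        have := hexp m (mem_support_iff.mpr hne) i
        rw [zero_dvd_iff] at this
        rw [this]; rfl
    rw [h0]
    intro hirr
    by_cases hc : h.coeff 0 = 0
    · rw [hc, C_0] at hirr
      exact hirr.ne_zero rfl
    · exact hirr.not_isUnit ((isUnit_iff_ne_zero.mpr hc).map C)

end Perfect

section Polar

variable {n : ℕ} {k : Type*} [Field k]

/-- The polar of `f` with respect to `v`. -/
noncomputable def polar (v : Fin n → k) : MvPolynomial (Fin n) k →ₗ[k] MvPolynomial (Fin n) k :=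
  ∑ i, v i • (pderiv i : Derivation k _ _).toLinearMap

theorem polar_apply (v : Fin n → k) (f : MvPolynomial (Fin n) k) :
    polar v f = ∑ i, v i • pderiv i f := by
  simp [polar, LinearMap.sum_apply]

theorem polar_mul (v : Fin n → k) (f g : MvPolynomial (Fin n) k) :
    polar v (f * g) = f * polar v g + g * polar v f := by
  simp only [polar_apply, Derivation.leibniz, smul_eq_mul, smul_add, Finset.sum_add_distrib,
    Finset.mul_sum, mul_smul_comm]

theorem isHomogeneous_polar (v : Fin n → k) {f : MvPolynomial (Fin n) k} {d : ℕ}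
    (hf : f.IsHomogeneous d) : (polar v f).IsHomogeneous (d - 1) := by
  rw [polar_apply]
  refine IsHomogeneous.sum _ _ _ fun i _ => ?_
  have h := hf.pderiv (i := i)
  exact (homogeneousSubmodule (Fin n) k (d - 1)).smul_mem (v i) h

/-- evaluation of the polar -/
theorem eval_polar (v p : Fin n → k) (f : MvPolynomial (Fin n) k) :
    eval p (polar v f) = ∑ i, v i * eval p (pderiv i f) := by
  rw [polar_apply, map_sum]
  simp [smul_eval]

theorem eval_polar_eq_zero (v p : Fin n → k) (f : MvPolynomial (Fin n) k)
    (h : ∀ i, eval p (pderiv i f) = 0) : eval p (polar v f) = 0 := by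
  rw [eval_polar]
  simp [h]

theorem totalDegree_pderiv_lt {h : MvPolynomial (Fin n) k} {i : Fin n} (hd : pderiv i h ≠ 0) :
    (pderiv i h).totalDegree < h.totalDegree := by
  classical
  obtain ⟨m, hm, hdeg⟩ := Finset.exists_mem_eq_sup (pderiv i h).support
    (support_nonempty.mpr hd) (fun m => m.sum fun _ e => e)
  have h1 : (pderiv i h).totalDegree = m.sum fun _ e => e := hdeg
  rw [h1]
  have h2 := mem_support_iff.mp hm
  rw [coeff_pderiv] at h2
  have h3 : m + Finsupp.single i 1 ∈ h.support := by
    rw [mem_support_iff]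
    exact left_ne_zero_of_mul h2
  have h4 := le_totalDegree h3
  have h5 : ((m + Finsupp.single i 1).sum fun _ e => e) = (m.sum fun _ e => e) + 1 := by
    rw [Finsupp.sum_add_index' (fun _ => rfl) (fun _ _ _ => rfl)]
    simp
  omega

/-- Coprime polar: for squarefree `f` over an algebraically closed field there is a polar coprime
to `f`. -/
theorem exists_polar_isRelPrime [IsAlgClosed k] {f : MvPolynomial (Fin n) k} (hf : Squarefree f) :
    ∃ v : Fin n → k, IsRelPrime f (polar v f) := by
  classical
  have hf0 : f ≠ 0 := hf.ne_zero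
  -- the bad subspaces
  let W : MvPolynomial (Fin n) k → Submodule k (Fin n → k) := fun h =>
    { carrier := {v | h ∣ polar v f}
      add_mem' := by
        intro a b ha hb
        change h ∣ polar (a + b) f
        have : polar (a + b) f = polar a f + polar b f := by
          simp only [polar_apply, Pi.add_apply, add_smul, Finset.sum_add_distrib]
        rw [this]
        exact dvd_add ha hb
      zero_mem' := by
        change h ∣ polar 0 f
        have : polar 0 f = 0 := by simp [polar_apply]
        rw [this]
        exact dvd_zero h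
      smul_mem' := by
        intro c a ha
        change h ∣ polar (c • a) f
        have : polar (c • a) f = c • polar a f := by
          simp only [polar_apply, Pi.smul_apply, smul_eq_mul, mul_smul, Finset.smul_sum]
        rw [this, smul_eq_C_mul]
        exact Dvd.dvd.mul_left ha _ }
  have hW : ∀ h, Irreducible h → h ∣ f → W h ≠ ⊤ := by
    intro h hirr hdvd htop
    obtain ⟨m, rfl⟩ := hdvd
    have hprime := hirr.prime
    have hnm : ¬ h ∣ m := by
      intro hm
      obtain ⟨m', rfl⟩ := hm
      exact hirr.not_isUnit (hf h ⟨m', by ring⟩)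
    apply not_irreducible_of_pderiv_eq_zero h _ hirr
    intro i
    by_contra hne
    have h1 : (Pi.single i 1 : Fin n → k) ∈ W h := by rw [htop]; trivial
    have h2 : h ∣ polar (Pi.single i 1) (h * m) := h1
    have h3 : polar (Pi.single i (1 : k)) (h * m) = pderiv i (h * m) := by
      rw [polar_apply, Finset.sum_eq_single i]
      · simp
      · intro j _ hj
        simp [Pi.single_eq_of_ne hj]
      · simp
    rw [h3, Derivation.leibniz, smul_eq_mul, smul_eq_mul] at h2
    have h4 : h ∣ m * pderiv i h := (dvd_add_right (Dvd.intro _ rfl)).mp h2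
    rcases hprime.dvd_or_dvd h4 with h5 | h5
    · exact hnm h5
    · obtain ⟨c, hc⟩ := h5
      have h6 := totalDegree_pderiv_lt hne
      have hc0 : c ≠ 0 := by
        rintro rfl
        rw [mul_zero] at hc
        exact hne hc
      rw [hc, totalDegree_mul_of_isDomain hirr.ne_zero hc0] at h6
      omega
  -- choose `v` outside of the bad subspaces of the irreducible factors
  let F : Finset (MvPolynomial (Fin n) k) := (UniqueFactorizationMonoid.factors f).toFinset
  have hinf : Infinite k := IsAlgClosed.instInfinite
  have hne : (⋃ p ∈ F.image W, (p : Set (Fin n → k))) ≠ Set.univ := by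
    apply Subspace.biUnion_ne_univ_of_top_notMem
    intro htop
    obtain ⟨h, hh, hW'⟩ := Finset.mem_image.mp htop
    have hh' := Multiset.mem_toFinset.mp hh
    exact hW h (UniqueFactorizationMonoid.irreducible_of_factor h hh')
      (UniqueFactorizationMonoid.dvd_of_mem_factors hh') hW'
  obtain ⟨v, hv⟩ := (Set.ne_univ_iff_exists_notMem _).mp hne
  refine ⟨v, fun d hdf hdg => ?_⟩
  by_contra hunit
  have hd0 : d ≠ 0 := by
    rintro rfl
    exact hf0 (zero_dvd_iff.mp hdf)
  obtain ⟨h, hirr, hhd⟩ := WfDvdMonoid.exists_irreducible_factor hunit hd0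
  obtain ⟨h', hh', hass⟩ := UniqueFactorizationMonoid.exists_mem_factors_of_dvd hf0 hirr
    (hhd.trans hdf)
  apply hv
  simp only [Set.mem_iUnion]
  refine ⟨W h', Finset.mem_image.mpr ⟨h', Multiset.mem_toFinset.mpr hh', rfl⟩, ?_⟩
  change h' ∣ polar v f
  exact hass.symm.dvd.trans (hhd.trans hdg)

end Polar

section Count

variable {n : ℕ} {k : Type*} [Field k]

/-- the linear form of a functional -/
noncomputable def lin (f : (Fin n → k) →ₗ[k] k) : MvPolynomial (Fin n) k :=
  ∑ l, C (f (Pi.single l 1)) * X l

theorem isHomogeneous_lin (f : (Fin n → k) →ₗ[k] k) : (lin f).IsHomogeneous 1 := by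
  refine IsHomogeneous.sum _ _ _ fun l _ => ?_
  have := (isHomogeneous_C (Fin n) (f (Pi.single l 1))).mul (isHomogeneous_X k l)
  simpa using this

theorem eval_lin (f : (Fin n → k) →ₗ[k] k) (p : Fin n → k) : eval p (lin f) = f p := by
  rw [lin, map_sum, LinearMap.pi_apply_eq_sum_univ f p]
  refine Finset.sum_congr rfl fun l _ => ?_
  rw [map_mul, eval_C, eval_X, smul_eq_mul, mul_comm]
  congr 2
  ext j
  rw [Pi.single_apply]
  simp only [eq_comm]

theorem polar_lin (f : (Fin n → k) →ₗ[k] k) (u : Fin n → k) : polar u (lin f) = C (f u) := by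
  classical
  rw [polar_apply, LinearMap.pi_apply_eq_sum_univ f u, map_sum]
  refine Finset.sum_congr rfl fun i _ => ?_
  have : pderiv i (lin f) = C (f (Pi.single i 1)) := by
    rw [lin, map_sum, Finset.sum_eq_single i]
    · simp
    · intro j _ hj
      rw [Derivation.leibniz, pderiv_X_of_ne hj, pderiv_C]
      simp
    · simp
  rw [this, smul_eq_C_mul, ← C_mul, smul_eq_mul]
  congr 3
  ext j
  rw [Pi.single_apply]
  simp only [eq_comm]

/-- value and derivative in the direction `u` at the point `p` -/
noncomputable def jet (p u : Fin n → k) : MvPolynomial (Fin n) k →ₗ[k] k × k :=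
  LinearMap.prod (aeval p).toLinearMap ((aeval p).toLinearMap ∘ₗ polar u)

theorem jet_apply (p u : Fin n → k) (f : MvPolynomial (Fin n) k) :
    jet p u f = (eval p f, eval p (polar u f)) := by
  simp [jet, aeval_eq_eval]

theorem jet_mul (p u : Fin n → k) (f g : MvPolynomial (Fin n) k) :
    jet p u (f * g) = (eval p f * eval p g,
      eval p f * eval p (polar u g) + eval p g * eval p (polar u f)) := by
  rw [jet_apply, polar_mul, map_mul, map_add, map_mul, map_mul]

theorem jet_mul_eq_zero (p u : Fin n → k) (f g : MvPolynomial (Fin n) k) (h : jet p u f = 0) :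
    jet p u (f * g) = 0 := by
  rw [jet_apply] at h
  obtain ⟨h1, h2⟩ := Prod.mk.inj h
  rw [jet_mul, h1, h2]
  simp

theorem jet_sq_eq_zero (p u : Fin n → k) (l : MvPolynomial (Fin n) k) (h : eval p l = 0) :
    jet p u (l ^ 2) = 0 := by
  rw [sq, jet_mul, h]
  simp

theorem exists_functional {p u : Fin n → k} (hp : p ∉ Submodule.span k {u})
    (hu : u ∉ Submodule.span k {p}) (a b : k) :
    ∃ m : (Fin n → k) →ₗ[k] k, m p = a ∧ m u = b := by
  obtain ⟨f, hf, hf'⟩ := Submodule.exists_le_ker_of_notMem hp
  obtain ⟨g, hg, hg'⟩ := Submodule.exists_le_ker_of_notMem hu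
  have hfu : f u = 0 := LinearMap.mem_ker.mp (hf' (Submodule.mem_span_singleton_self u))
  have hgp : g p = 0 := LinearMap.mem_ker.mp (hg' (Submodule.mem_span_singleton_self p))
  refine ⟨(a / f p) • f + (b / g u) • g, ?_, ?_⟩
  · simp [hgp, hf]
  · simp [hfu, hg]

theorem exists_jet {ι : Type*} [Fintype ι] (p u : ι → Fin n → k)
    (hp : ∀ i j, i ≠ j → p i ∉ Submodule.span k {p j})
    (hpu : ∀ i, p i ∉ Submodule.span k {u i}) (hup : ∀ i, u i ∉ Submodule.span k {p i})
    (t : ι → k × k) :
    ∃ h : MvPolynomial (Fin n) k, h.IsHomogeneous (2 * (Fintype.card ι - 1) + 1) ∧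
      ∀ i, jet (p i) (u i) h = t i := by
  classical
  have hl : ∀ i j, ∃ f : (Fin n → k) →ₗ[k] k, i ≠ j → f (p i) ≠ 0 ∧ f (p j) = 0 := by
    intro i j
    by_cases hij : i = j
    · exact ⟨0, fun h => absurd hij h⟩
    · obtain ⟨f, hf, hf'⟩ := Submodule.exists_le_ker_of_notMem (hp i j hij)
      exact ⟨f, fun _ => ⟨hf, LinearMap.mem_ker.mp (hf' (Submodule.mem_span_singleton_self _))⟩⟩
  choose L hL using hl
  let E : ι → MvPolynomial (Fin n) k := fun i => ∏ j ∈ Finset.univ.erase i, (lin (L i j)) ^ 2
  have hEhom : ∀ i, (E i).IsHomogeneous (2 * (Fintype.card ι - 1)) := by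
    intro i
    have h := IsHomogeneous.prod (Finset.univ.erase i) (fun j => (lin (L i j)) ^ 2) (fun _ => 1 * 2)
      (fun j _ => (isHomogeneous_lin (L i j)).pow 2)
    rw [Finset.sum_const, Finset.card_erase_of_mem (Finset.mem_univ i), Finset.card_univ] at h
    rw [mul_comm]
    simpa using h
  have hEi : ∀ i, eval (p i) (E i) ≠ 0 := by
    intro i
    rw [map_prod, Finset.prod_ne_zero_iff]
    intro j hj
    rw [map_pow, eval_lin]
    exact pow_ne_zero 2 (hL i j (Finset.ne_of_mem_erase hj).symm).1
  have hEj : ∀ i j, i ≠ j → ∀ g, jet (p j) (u j) (E i * g) = 0 := by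
    intro i j hij g
    have h1 : E i = (lin (L i j)) ^ 2 * ∏ l ∈ (Finset.univ.erase i).erase j, (lin (L i l)) ^ 2 :=
      (Finset.mul_prod_erase _ _ (Finset.mem_erase.mpr ⟨hij.symm, Finset.mem_univ j⟩)).symm
    rw [h1, mul_assoc]
    apply jet_mul_eq_zero
    apply jet_sq_eq_zero
    rw [eval_lin]
    exact (hL i j hij).2
  have hm : ∀ i, ∃ m : (Fin n → k) →ₗ[k] k, jet (p i) (u i) (E i * lin m) = t i := by
    intro i
    obtain ⟨m, h1, h2⟩ := exists_functional (hpu i) (hup i) ((t i).1 / eval (p i) (E i))
      (((t i).2 - (t i).1 / eval (p i) (E i) * eval (p i) (polar (u i) (E i))) /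
        eval (p i) (E i))
    refine ⟨m, ?_⟩
    rw [jet_mul, eval_lin, polar_lin, eval_C, h1, h2]
    have := hEi i
    apply Prod.ext
    · simp only
      field_simp
    · simp only
      field_simp
      ring
  choose m hm using hm
  refine ⟨∑ i, E i * lin (m i), ?_, ?_⟩
  · refine IsHomogeneous.sum _ _ _ fun i _ => ?_
    exact (hEhom i).mul (isHomogeneous_lin (m i))
  · intro j
    rw [map_sum, Finset.sum_eq_single j]
    · exact hm j
    · intro i _ hij
      exact hEj i j hij _
    · simp

end Count

end K324.PlaneSing
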