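import Groth.Agent.Curves.K324.NodeDer

/-!
# Derivations of an at-worst-nodal curve and the points over the nodes
-/

set_option autoImplicit false
universe u

open CategoryTheory CategoryTheory.Limits AlgebraicGeometry TopologicalSpace Opposite IsLocalRing

attribute [local instance] Curv2.stalkAlgebra

namespace K324.NodeDer2

open K324.NodeAlg K324.RDer K324.NodeNorm K324.NodeDer

section General

variable {X X' : Scheme.{u}} {ν : X' ⟶ X} {U : X.Opens}

/-- A nonzerodivisor of a local ring is the germ of a nonzerodivisor near the point. -/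
theorem exists_nzd_section [IsLocallyNoetherian X] (x : X) (y : X.presheaf.stalk x)
    (hy : y ∈ nonZeroDivisors (X.presheaf.stalk x)) :
    ∃ (V : X.Opens) (_ : IsAffineOpen V) (hx : x ∈ V) (s : Γ(X, V)), s ∈ nonZeroDivisors Γ(X, V) ∧
      X.presheaf.germ V x hx s = y := by
  obtain ⟨V₁, hx₁, s₁, rfl⟩ := TopCat.Presheaf.exists_germ_eq X.presheaf y
  obtain ⟨V, hV, hxV, hle⟩ := exists_isAffineOpen_mem_and_subset (x := x) (U := V₁) hx₁
  have hN : IsNoetherianRing Γ(X, V) := IsLocallyNoetherian.component_noetherian ⟨V, hV⟩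
  let s : Γ(X, V) := X.presheaf.map (homOfLE hle).op s₁
  have hs : X.presheaf.germ V x hxV s = X.presheaf.germ V₁ x hx₁ s₁ := germ_res hle x hxV s₁
  let _ := X.presheaf.algebra_section_stalk ⟨x, hxV⟩
  have hloc : IsLocalization.AtPrime (X.presheaf.stalk x) (hV.primeIdealOf ⟨x, hxV⟩).asIdeal :=
    hV.isLocalization_stalk ⟨x, hxV⟩
  -- a function outside the prime killing the annihilator of `s`
  let J : Ideal Γ(X, V) := Module.annihilator Γ(X, V) (Ideal.span {s})
  have hJ : ∀ z : Γ(X, V), z ∈ J ↔ z * s = 0 := by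
    intro z
    rw [Module.mem_annihilator]
    constructor
    · intro h
      exact congrArg Subtype.val (h ⟨s, Ideal.mem_span_singleton_self s⟩)
    · rintro h ⟨m, hm⟩
      obtain ⟨c, rfl⟩ := Ideal.mem_span_singleton'.1 hm
      apply Subtype.ext
      change z * (c * s) = 0
      rw [mul_left_comm, h, mul_zero]
  obtain ⟨T, hT⟩ : J.FG := IsNoetherian.noetherian J
  have h1 : ∀ z ∈ T, ∃ t : Γ(X, V), t ∉ (hV.primeIdealOf ⟨x, hxV⟩).asIdeal ∧ t * z = 0 := by
    intro z hz
    have hzJ : z ∈ J := hT ▸ Ideal.subset_span hz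
    have h2 : algebraMap Γ(X, V) (X.presheaf.stalk x) z = 0 := by
      rw [mem_nonZeroDivisors_iff_right] at hy
      apply hy
      have := congrArg (X.presheaf.germ V x hxV) ((hJ z).1 hzJ)
      rw [map_mul, map_zero, hs] at this
      exact this
    rw [IsLocalization.map_eq_zero_iff (hV.primeIdealOf ⟨x, hxV⟩).asIdeal.primeCompl] at h2
    obtain ⟨⟨t, ht⟩, h3⟩ := h2
    exact ⟨t, ht, h3⟩
  choose! t ht ht' using h1
  let g : Γ(X, V) := ∏ z ∈ T, t z
  have hg : g ∉ (hV.primeIdealOf ⟨x, hxV⟩).asIdeal := by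
    intro hg
    obtain ⟨z, hz, h⟩ := Ideal.IsPrime.prod_mem_iff.1 hg
    exact ht z hz h
  have hgJ : ∀ z ∈ J, g * z = 0 := by
    intro z hz
    have h4 : J ≤ Module.annihilator Γ(X, V) (Ideal.span {g}) := by
      rw [← hT, Ideal.span_le]
      intro z hz
      rw [SetLike.mem_coe, Module.mem_annihilator]
      rintro ⟨m, hm⟩
      obtain ⟨c, rfl⟩ := Ideal.mem_span_singleton'.1 hm
      apply Subtype.ext
      change z * (c * g) = 0
      obtain ⟨d, hd⟩ : t z ∣ g := Finset.dvd_prod_of_mem t hz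
      rw [hd]
      linear_combination (c * d) * ht' z hz
    have h5 := h4 hz
    rw [Module.mem_annihilator] at h5
    have h6 := congrArg Subtype.val (h5 ⟨g, Ideal.mem_span_singleton_self g⟩)
    change z * g = 0 at h6
    rw [mul_comm, h6]
  have hxg : x ∈ X.basicOpen g := by
    rw [Scheme.mem_basicOpen _ _ _ hxV]
    exact (IsLocalization.AtPrime.isUnit_to_map_iff (X.presheaf.stalk x) (hV.primeIdealOf ⟨x, hxV⟩).asIdeal g).2 hg
  have hlocg := hV.isLocalization_basicOpen g
  refine ⟨X.basicOpen g, hV.basicOpen g, hxg, X.presheaf.map (homOfLE (X.basicOpen_le g)).op s, ?_, ?_⟩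
  · rw [mem_nonZeroDivisors_iff_right]
    intro z hz
    obtain ⟨n, z₀, hz₀⟩ := IsLocalization.Away.surj g z
    have e1 : algebraMap Γ(X, V) Γ(X, X.basicOpen g) (z₀ * s) = 0 := by
      rw [map_mul, ← hz₀]
      have : z * algebraMap Γ(X, V) Γ(X, X.basicOpen g) s = 0 := hz
      linear_combination (algebraMap Γ(X, V) Γ(X, X.basicOpen g) g ^ n) * this
    rw [IsLocalization.map_eq_zero_iff (Submonoid.powers g)] at e1
    obtain ⟨⟨_, m, rfl⟩, e2⟩ := e1
    have e3 : g ^ m * z₀ ∈ J := by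
      rw [hJ, mul_assoc]
      exact e2
    have e4 := congrArg (algebraMap Γ(X, V) Γ(X, X.basicOpen g)) (hgJ _ e3)
    have hgu : IsUnit (algebraMap Γ(X, V) Γ(X, X.basicOpen g) g) :=
      IsLocalization.Away.algebraMap_isUnit g
    rw [map_mul, map_mul, map_pow, map_zero, ← mul_assoc, ← pow_succ', ← hz₀, ← mul_assoc, mul_comm, ← mul_assoc,
      ← pow_add] at e4
    exact (hgu.pow _).mul_right_eq_zero.1 e4
  · rw [germ_res]
    exact hs

theorem stalkMap_ne_zero [IsLocallyNoetherian X] (hU' : Dense ((ν ⁻¹ᵁ U : X'.Opens) : Set X'))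
    (hν : IsIso (ν ∣_ U)) (w : X') (s : X.presheaf.stalk (ν w))
    (hs : s ∈ nonZeroDivisors (X.presheaf.stalk (ν w))) : ν.stalkMap w s ≠ 0 := by
  obtain ⟨V, hV, hx, s', hs', rfl⟩ := exists_nzd_section (ν w) s hs
  have hx' : w ∈ ν ⁻¹ᵁ V := hx
  have := germ_app_ne_zero hU' hν hV hs' w hx'
  rwa [germ_app] at this

/-- Elements of the local rings over an affine open are fractions. -/
theorem exists_frac [IsAffineHom ν] {V : X.Opens} (hV : IsAffineOpen V) (w : X') (hw : w ∈ ν ⁻¹ᵁ V)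
    (τ : X'.presheaf.stalk w) : ∃ (b g : Γ(X', ν ⁻¹ᵁ V)) (γ : X'.presheaf.stalk w),
      X'.presheaf.germ _ w hw g * γ = 1 ∧ τ = X'.presheaf.germ _ w hw b * γ := by
  have hV' : IsAffineOpen (ν ⁻¹ᵁ V) := hV.preimage ν
  let _ := X'.presheaf.algebra_section_stalk ⟨w, hw⟩
  have hloc : IsLocalization.AtPrime (X'.presheaf.stalk w) (hV'.primeIdealOf ⟨w, hw⟩).asIdeal :=
    hV'.isLocalization_stalk ⟨w, hw⟩
  obtain ⟨⟨b, g⟩, h⟩ := IsLocalization.surj (hV'.primeIdealOf ⟨w, hw⟩).asIdeal.primeCompl τ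
  obtain ⟨γ, hγ⟩ := (IsLocalization.map_units (X'.presheaf.stalk w) g).exists_right_inv
  refine ⟨b, g, γ, hγ, ?_⟩
  change τ * X'.presheaf.germ _ w hw g = X'.presheaf.germ _ w hw b at h
  change X'.presheaf.germ _ w hw g * γ = 1 at hγ
  rw [← h, mul_assoc, hγ, mul_one]

end General

section Curve

variable (k : Type u) [Field k] [IsAlgClosed k] {X X' : Scheme.{u}} [X.Over (Spec (CommRingCat.of k))]
  [LocallyOfFiniteType (X ↘ (Spec (CommRingCat.of k)))] {ν : X' ⟶ X} {U : X.Opens}

omit [IsAlgClosed k] [LocallyOfFiniteType (X ↘ (Spec (CommRingCat.of k)))] in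
theorem st_algebraMap (D : OmegaSh.Der (X ↘ (Spec (CommRingCat.of k))) (Coh.structureModule X)) (x : X) (c : k) :
    (RD.ofDer D).st x (algebraMap k (X.presheaf.stalk x) c) = 0 := by
  have hx : x ∈ (⊤ : X.Opens) := trivial
  let a : Γ(X, ⊤) := (X ↘ (Spec (CommRingCat.of k))).app ⊤ ((Scheme.ΓSpecIso (CommRingCat.of k)).inv c)
  have h1 : algebraMap k (X.presheaf.stalk x) c = X.presheaf.germ ⊤ x hx a := rfl
  have h2 : (RD.ofDer D).d ⊤ a = 0 := RD.ofDer_base D ⊤ ((Scheme.ΓSpecIso (CommRingCat.of k)).inv c)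
  rw [h1, RD.st_germ, h2, map_zero]

theorem hE [IsFinite ν] (hdim : topologicalKrullDim X ≤ 1) (hX : Curv2.AtWorstNodal k X)
    (hX' : Pi1.IsNormalScheme X')
    (hU : Dense (U : Set X)) (hU' : Dense ((ν ⁻¹ᵁ U : X'.Opens) : Set X')) (hν : IsIso (ν ∣_ U))
    (D : OmegaSh.Der (X ↘ (Spec (CommRingCat.of k))) (Coh.structureModule X)) (w : X')
    (τ : X'.presheaf.stalk w) : E ν U (RD.ofDer D) w τ := by
  have : IsReduced X := isReduced_of_atWorstNodal X k hX
  have : IsLocallyNoetherian X :=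
    Groth.Agent.CurvesB.NodeSch2.isLocallyNoetherian_of_locallyOfFiniteType (X ↘ (Spec (CommRingCat.of k)))
  obtain ⟨V, hV, hxV, -⟩ := exists_isAffineOpen_mem_and_subset (x := ν w) (U := ⊤) trivial
  have hwV : w ∈ ν ⁻¹ᵁ V := hxV
  have hdom := (hX' w).1
  have hint := (hX' w).2
  have key : ∀ b : Γ(X', ν ⁻¹ᵁ V), E ν U (RD.ofDer D) w (X'.presheaf.germ _ w hwV b) := by
    intro b
    refine E.of_den (fun w => (hX' w).1) hU hU' hν hV b w hwV fun a s hs hi hs0 => ?_
    rcases normal_or_node X k hdim hX (ν w) with ⟨h1, h2⟩ | h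
    · obtain ⟨σ, rfl⟩ := hi.exists_of_isIntegrallyClosed (nonZeroDivisors.ne_zero hs)
      refine ⟨ν.stalkMap w ((RD.ofDer D).st _ σ), ?_⟩
      rw [← map_pow, ← map_mul, RD.st_mul]
      congr 1
      ring
    · obtain ⟨φ, ψ, hb⟩ := exists_isBranch_of_isNode X k (ν w) h
      exact dvd_of_mul_max (ν.stalkMap w).hom hs0 fun m hm =>
        hb.der_quot ((RD.ofDer D).st _) ((RD.ofDer D).st_mul _) (st_algebraMap k D _) hs hi hm
  obtain ⟨b, g, γ, h1, rfl⟩ := exists_frac hV w hwV τ
  exact (key b).mul hν ((key g).inv hν h1)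

/-- Over a node, the maximal ideals of the normalization are generated by the maximal ideal of the node. -/
theorem max_le_map [IsFinite ν] [IsReduced X] (hX' : Pi1.IsNormalScheme X')
    (hU : Dense (U : Set X)) (hU' : Dense ((ν ⁻¹ᵁ U : X'.Opens) : Set X')) (hν : IsIso (ν ∣_ U))
    (w : X') (hw : Curv2.IsNode k X (ν w)) :
    maximalIdeal (X'.presheaf.stalk w) ≤ (maximalIdeal (X.presheaf.stalk (ν w))).map (ν.stalkMap w).hom := by
  have : IsLocallyNoetherian X :=
    Groth.Agent.CurvesB.NodeSch2.isLocallyNoetherian_of_locallyOfFiniteType (X ↘ (Spec (CommRingCat.of k)))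
  have hdom := (hX' w).1
  have hint := (hX' w).2
  obtain ⟨V, hV, hxV, -⟩ := exists_isAffineOpen_mem_and_subset (x := ν w) (U := ⊤) trivial
  have hwV : w ∈ ν ⁻¹ᵁ V := hxV
  obtain ⟨φ, ψ, hb⟩ := exists_isBranch_of_isNode X k (ν w) hw
  obtain ⟨u, s₀, c, hs₀, hc, hu, hsplit⟩ := hb.exists_split
  let f : X.presheaf.stalk (ν w) →+* X'.presheaf.stalk w := (ν.stalkMap w).hom
  let I := (maximalIdeal (X.presheaf.stalk (ν w))).map f
  have hfs₀ : f s₀ ≠ 0 := stalkMap_ne_zero hU' hν w s₀ hs₀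
  have hfm : ∀ m ∈ maximalIdeal (X.presheaf.stalk (ν w)), f m ∈ maximalIdeal (X'.presheaf.stalk w) := by
    intro m hm
    exact map_nonunit (ν.stalkMap w).hom m hm
  have hIm : I ≤ maximalIdeal (X'.presheaf.stalk w) := Ideal.map_le_iff_le_comap.2 hfm
  -- the idempotent
  obtain ⟨υ, hυ⟩ : ∃ υ, f u = f s₀ * υ := by
    exact IntPair.exists_of_isIntegrallyClosed hfs₀ (IntPair.map f (IntPair.of_quadratic hu))
  have hυ2 : υ * (1 - υ) = f c := by
    have h1 := congrArg f hu
    rw [map_add, map_mul, map_mul, map_pow, map_pow, hυ] at h1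
    apply mul_left_cancel₀ (pow_ne_zero 2 hfs₀)
    linear_combination -h1
  have hsec : ∀ b : Γ(X', ν ⁻¹ᵁ V), X'.presheaf.germ _ w hwV b ∈ maximalIdeal (X'.presheaf.stalk w) →
      X'.presheaf.germ _ w hwV b ∈ I := by
    intro b hbm
    obtain ⟨s, a, hs, h⟩ := exists_den hU hν hV b
    have hs' := germ_mem_nonZeroDivisors hV hs (ν w) hxV
    obtain ⟨α, β, m, hm, e⟩ := hsplit _ _ hs' (intPair_germ hU hν hV h (ν w) hxV)
    have hfs : f (X.presheaf.germ V (ν w) hxV s) ≠ 0 := stalkMap_ne_zero hU' hν w _ hs'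
    have e1 : f (X.presheaf.germ V (ν w) hxV a) = f (X.presheaf.germ V (ν w) hxV s) *
        X'.presheaf.germ _ w hwV b := by
      have := congrArg (X'.presheaf.germ _ w hwV) h
      rw [map_mul, germ_app, germ_app] at this
      exact this.symm
    have e2 : X'.presheaf.germ _ w hwV b = f (algebraMap k _ α) + f (algebraMap k _ β) * υ + f m := by
      apply mul_left_cancel₀ (mul_ne_zero hfs₀ hfs)
      have e3 := congrArg f e
      rw [map_mul, map_add, map_add, map_mul, map_mul, map_mul, map_mul, map_mul, map_mul, e1, hυ] at e3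
      linear_combination e3
    have hconst : ∀ c : k, f (algebraMap k _ c) ∈ maximalIdeal (X'.presheaf.stalk w) → c = 0 := by
      intro c hc
      by_contra h0
      have : IsUnit (f (algebraMap k _ c)) := ((isUnit_iff_ne_zero.2 h0).map (algebraMap k _)).map f
      exact hc this
    have hmI : f m ∈ I := Ideal.mem_map_of_mem f hm
    have hcI : f c ∈ I := Ideal.mem_map_of_mem f hc
    by_cases hυm : υ ∈ maximalIdeal (X'.presheaf.stalk w)
    · have hα : α = 0 := by
        apply hconst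
        have : f (algebraMap k _ α) = X'.presheaf.germ _ w hwV b - f (algebraMap k _ β) * υ - f m := by
          rw [e2]; ring
        rw [this]
        exact Ideal.sub_mem _ (Ideal.sub_mem _ hbm (Ideal.mul_mem_left _ _ hυm)) (hfm m hm)
      have h1 : IsUnit (1 - υ) := by
        by_contra h1
        have h2 : (1 - υ) + υ ∈ maximalIdeal (X'.presheaf.stalk w) := Ideal.add_mem _ h1 hυm
        rw [sub_add_cancel] at h2
        exact h2 isUnit_one
      obtain ⟨ω, hω⟩ := h1.exists_right_inv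
      have h3 : υ = f c * ω := by rw [← hυ2, mul_assoc, hω, mul_one]
      rw [e2, hα, map_zero, map_zero, zero_add, h3]
      exact Ideal.add_mem _ (Ideal.mul_mem_left _ _ (Ideal.mul_mem_right _ _ hcI)) hmI
    · have hυu : IsUnit υ := by
        by_contra h
        exact hυm h
      obtain ⟨ω, hω⟩ := hυu.exists_right_inv
      have h3 : 1 - υ = f c * ω := by
        rw [← hυ2]
        linear_combination -(1 - υ) * hω
      have h4 : 1 - υ ∈ maximalIdeal (X'.presheaf.stalk w) := by
        rw [h3]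
        exact Ideal.mul_mem_right _ _ (hfm c hc)
      have hαβ : α + β = 0 := by
        apply hconst
        have : f (algebraMap k _ (α + β)) = X'.presheaf.germ _ w hwV b + f (algebraMap k _ β) * (1 - υ) - f m := by
          rw [e2, map_add, map_add]; ring
        rw [this]
        exact Ideal.sub_mem _ (Ideal.add_mem _ hbm (Ideal.mul_mem_left _ _ h4)) (hfm m hm)
      have h5 : X'.presheaf.germ _ w hwV b = - f (algebraMap k _ β) * (f c * ω) + f m := by
        have h6 : f (algebraMap k _ α) + f (algebraMap k _ β) = 0 := by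
          rw [← map_add, ← map_add, hαβ, map_zero, map_zero]
        rw [e2, ← h3]
        linear_combination h6
      rw [h5]
      exact Ideal.add_mem _ (Ideal.mul_mem_left _ _ (Ideal.mul_mem_right _ _ hcI)) hmI
  intro τ hτ
  obtain ⟨b, g, γ, h1, rfl⟩ := exists_frac hV w hwV τ
  have hbm : X'.presheaf.germ _ w hwV b ∈ maximalIdeal (X'.presheaf.stalk w) := by
    have := Ideal.mul_mem_left _ (X'.presheaf.germ _ w hwV g) hτ
    rwa [mul_left_comm, h1, mul_one] at this
  exact Ideal.mul_mem_right _ _ (hsec b hbm)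

end Curve

end K324.NodeDer2
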