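import Groth.Agent.OmegaSh.K583.DerAffine
import Mathlib.AlgebraicGeometry.Noetherian

/-!
# Derivations of the structure sheaf into itself

* `RD X`: additive Leibniz maps `Γ(X, U) → Γ(X, U)` compatible with restriction; `RD.ofDer`, `RD.toDer`;
* `RD.st`: the derivation on stalks;
* `exists_glue`: gluing of sections determined by a local property.
-/

set_option autoImplicit false
universe u

open CategoryTheory CategoryTheory.Limits AlgebraicGeometry TopologicalSpace Opposite OmegaSh

namespace K324.RDer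

/-- A derivation of the structure sheaf. -/
structure RD (X : Scheme.{u}) where
  /-- the values -/
  d : ∀ U : X.Opens, Γ(X, U) →+ Γ(X, U)
  mul : ∀ U a b, d U (a * b) = a * d U b + b * d U a
  res : ∀ {U V : X.Opens} (h : V ≤ U) (a : Γ(X, U)),
    d V (X.presheaf.map (homOfLE h).op a) = X.presheaf.map (homOfLE h).op (d U a)

variable {X Y : Scheme.{u}}

/-- From `Der` to `RD`. -/
noncomputable def RD.ofDer {f : X ⟶ Y} (D : Der f (Coh.structureModule X)) : RD X where
  d U := (fnSect X U).comp (D.app U)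
  mul U a b := K583.DerAffine.app_mul D U a b
  res h a := K583.DerAffine.app_map D h a

theorem RD.ofDer_d {f : X ⟶ Y} (D : Der f (Coh.structureModule X)) (U : X.Opens) (s : Γ(X, U)) :
    (RD.ofDer D).d U s = fnSect X U (D.app U s) := rfl

theorem RD.ofDer_base {f : X ⟶ Y} (D : Der f (Coh.structureModule X)) (V : Y.Opens) (c : Γ(Y, V)) :
    (RD.ofDer D).d (f ⁻¹ᵁ V) (f.app V c) = 0 := K583.DerAffine.app_base D V c

/-- From `RD` to `Der`. -/
noncomputable def RD.toDer (R : RD X) (f : X ⟶ Y) (h : ∀ (V : Y.Opens) (c : Γ(Y, V)), R.d (f ⁻¹ᵁ V) (f.app V c) = 0) :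
    Der f (Coh.structureModule X) :=
  K583.DerAffine.mkDer f (Coh.structureModule X) (fun U => (strSect X U).comp (R.d U))
    (fun U a b => R.mul U a b) (fun _ _ h a => R.res h a) (fun V c => h V c)

theorem RD.toDer_app (R : RD X) (f : X ⟶ Y)
    (h : ∀ (V : Y.Opens) (c : Γ(Y, V)), R.d (f ⁻¹ᵁ V) (f.app V c) = 0) (U : X.Opens) (s : Γ(X, U)) :
    fnSect X U ((R.toDer f h).app U s) = R.d U s := rfl

theorem der_ext {f : X ⟶ Y} {D D' : Der f (Coh.structureModule X)}
    (h : ∀ (U : X.Opens) (a : Γ(X, U)), fnSect X U (D.app U a) = fnSect X U (D'.app U a)) : D = D' :=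
  K583.DerAffine.ext_of_app h

section Stalk

variable (R : RD X) (x : X)

theorem germ_d_eq {U V : X.Opens} (hU : x ∈ U) (hV : x ∈ V)
    (s : Γ(X, U)) (t : Γ(X, V)) (h : X.presheaf.germ U x hU s = X.presheaf.germ V x hV t) :
    X.presheaf.germ U x hU (R.d U s) = X.presheaf.germ V x hV (R.d V t) := by
  obtain ⟨W, hW, iU, iV, e⟩ := TopCat.Presheaf.germ_eq X.presheaf x hU hV s t h
  rw [← TopCat.Presheaf.germ_res_apply X.presheaf iU x hW, ← TopCat.Presheaf.germ_res_apply
    X.presheaf iV x hW]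
  congr 1
  have e1 := R.res iU.le s
  have e2 := R.res iV.le t
  exact e1.symm.trans ((congrArg _ e).trans e2)

theorem exists_common (a b : X.presheaf.stalk x) :
    ∃ (U : X.Opens) (hU : x ∈ U) (s t : Γ(X, U)), X.presheaf.germ U x hU s = a ∧
      X.presheaf.germ U x hU t = b := by
  obtain ⟨U, hU, s, rfl⟩ := TopCat.Presheaf.exists_germ_eq X.presheaf a
  obtain ⟨V, hV, t, rfl⟩ := TopCat.Presheaf.exists_germ_eq X.presheaf b
  refine ⟨U ⊓ V, ⟨hU, hV⟩, X.presheaf.map (homOfLE inf_le_left).op s,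
    X.presheaf.map (homOfLE inf_le_right).op t, ?_, ?_⟩
  · exact TopCat.Presheaf.germ_res_apply X.presheaf (homOfLE inf_le_left) x ⟨hU, hV⟩ s
  · exact TopCat.Presheaf.germ_res_apply X.presheaf (homOfLE inf_le_right) x ⟨hU, hV⟩ t

/-- The derivation on the stalk as a function. -/
noncomputable def stFun (t : X.presheaf.stalk x) : X.presheaf.stalk x :=
  let h := TopCat.Presheaf.exists_germ_eq X.presheaf t
  X.presheaf.germ h.choose x h.choose_spec.choose (R.d _ h.choose_spec.choose_spec.choose)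

theorem stFun_germ (U : X.Opens) (hU : x ∈ U) (s : Γ(X, U)) :
    stFun R x (X.presheaf.germ U x hU s) = X.presheaf.germ U x hU (R.d U s) :=
  germ_d_eq R x _ _ _ _
    (TopCat.Presheaf.exists_germ_eq X.presheaf (X.presheaf.germ U x hU s)).choose_spec.choose_spec.choose_spec

/-- The derivation on the stalk. -/
noncomputable def RD.st : X.presheaf.stalk x →+ X.presheaf.stalk x where
  toFun := stFun R x
  map_zero' := by
    have := stFun_germ R x ⊤ trivial 0
    rwa [map_zero, map_zero, map_zero] at this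
  map_add' a b := by
    obtain ⟨U, hU, s, t, rfl, rfl⟩ := exists_common x a b
    rw [← map_add, stFun_germ, stFun_germ, stFun_germ, map_add, map_add]

theorem RD.st_germ (U : X.Opens) (hU : x ∈ U) (s : Γ(X, U)) :
    R.st x (X.presheaf.germ U x hU s) = X.presheaf.germ U x hU (R.d U s) :=
  stFun_germ R x U hU s

theorem RD.st_mul (a b : X.presheaf.stalk x) : R.st x (a * b) = a * R.st x b + b * R.st x a := by
  obtain ⟨U, hU, s, t, rfl, rfl⟩ := exists_common x a b
  rw [← map_mul, R.st_germ, R.st_germ, R.st_germ, R.mul, map_add, map_mul, map_mul]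

end Stalk

/-- Gluing of sections which are locally determined by a property. -/
theorem exists_glue (W : X.Opens) (P : ∀ N : X.Opens, Γ(X, N) → Prop)
    (hres : ∀ (N N' : X.Opens) (h : N' ≤ N) (r : Γ(X, N)), P N r → P N' (X.presheaf.map (homOfLE h).op r))
    (huniq : ∀ (N : X.Opens) (r r' : Γ(X, N)), N ≤ W → P N r → P N r' → r = r')
    (hloc : ∀ w ∈ W, ∃ (N : X.Opens) (_ : N ≤ W) (_ : w ∈ N) (r : Γ(X, N)), P N r) :
    ∃ r : Γ(X, W), ∀ w ∈ W, ∃ (N : X.Opens) (h : N ≤ W) (_ : w ∈ N),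
      P N (X.presheaf.map (homOfLE h).op r) := by
  choose N hN hw r hr using hloc
  obtain ⟨s, hs, -⟩ := X.sheaf.existsUnique_gluing' (fun w : W => N w.1 w.2) W
    (fun w => homOfLE (hN w.1 w.2))
    (fun w hw' => Opens.mem_iSup.2 ⟨⟨w, hw'⟩, hw w hw'⟩) (fun w => r w.1 w.2) (fun v w => by
      refine huniq _ _ _ (inf_le_left.trans (hN _ _)) ?_ ?_
      · exact hres _ _ inf_le_left _ (hr v.1 v.2)
      · exact hres _ _ inf_le_right _ (hr w.1 w.2))
  refine ⟨s, fun w hw' => ⟨N w hw', hN w hw', hw w hw', ?_⟩⟩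
  have h1 := hs ⟨w, hw'⟩
  have h2 : X.presheaf.map (homOfLE (hN w hw')).op s = r w hw' := h1
  rw [h2]
  exact hr w hw'

/-- Sections with the same germs are equal. -/
theorem section_ext {W : X.Opens} {r r' : Γ(X, W)}
    (h : ∀ (w : X) (hw : w ∈ W), X.presheaf.germ W w hw r = X.presheaf.germ W w hw r') : r = r' :=
  TopCat.Presheaf.section_ext X.sheaf W r r' h

/-- On a reduced scheme, sections with the same germs on a dense open subset are equal. -/
theorem eq_of_dense [IsReduced X] {U' : X.Opens} (hU' : Dense (U' : Set X)) {W : X.Opens} {r r' : Γ(X, W)}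
    (h : ∀ (w : X) (hw : w ∈ W), w ∈ U' → X.presheaf.germ W w hw r = X.presheaf.germ W w hw r') : r = r' := by
  rw [← sub_eq_zero, ← basicOpen_eq_bot_iff]
  rw [eq_bot_iff]
  intro w hw
  obtain ⟨v, hv1, hv2⟩ := hU'.inter_open_nonempty _ (X.basicOpen (r - r')).isOpen ⟨w, hw⟩
  have hvW : v ∈ W := X.basicOpen_le _ hv1
  rw [SetLike.mem_coe, Scheme.mem_basicOpen _ _ _ hvW, map_sub, h v hvW hv2, sub_self] at hv1
  exact (not_isUnit_zero hv1).elim

end K324.RDer
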