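import Groth.Agent.Curves.K324.NodeAlg
import Groth.Agent.Curves.K324.RDer
import Groth.Agent.CurvesB.NodeSch2
import Groth.Agent.CurvesB.NodeCriterion
import Groth.Agent.CurvesC.RegNormal

/-!
# Fractions over the normalization

`ν : X' ⟶ X` finite, an isomorphism over a dense open `U` with dense preimage, `X` reduced Noetherian.  Sections of
`O_{X'}` over `ν⁻¹ V`, `V` affine, are fractions `a / s` with `s` a nonzerodivisor.
-/

set_option autoImplicit false
universe u

open CategoryTheory CategoryTheory.Limits AlgebraicGeometry TopologicalSpace Opposite IsLocalRing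

namespace K324.NodeNorm

open K324.NodeAlg K324.RDer

variable {X X' : Scheme.{u}} {ν : X' ⟶ X} {U : X.Opens}

theorem bijective_stalkMap (hν : IsIso (ν ∣_ U)) (w : X') (hw : ν w ∈ U) :
    Function.Bijective (ν.stalkMap w) := by
  have h := morphismRestrictStalkMap ν U ⟨w, hw⟩
  have h0 : IsOpenImmersion (ν ∣_ U) := inferInstance
  have h1 : IsIso ((ν ∣_ U).stalkMap ⟨w, hw⟩) := (IsOpenImmersion.iff_isIso_stalkMap.mp h0).2 _
  have h2 : IsIso (ν.stalkMap w) := (MorphismProperty.isomorphisms _).arrow_mk_iso_iff h |>.mp h1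
  exact ConcreteCategory.bijective_of_isIso (ν.stalkMap w)

theorem exists_preimage (hν : IsIso (ν ∣_ U)) (x : X) (hx : x ∈ U) : ∃ w : X', ν w = x := by
  have hs : Function.Surjective (ν ∣_ U) := (inferInstance : Surjective (ν ∣_ U)).surj
  obtain ⟨w, hw⟩ := hs ⟨x, hx⟩
  refine ⟨w.1, ?_⟩
  have h3 := morphismRestrict_base_coe ν U w
  rw [hw] at h3
  exact h3.symm

theorem memOf {V : X.Opens} {w : X'} (hw : w ∈ ν ⁻¹ᵁ V) : ν w ∈ V := hw

theorem germ_app {V : X.Opens} (w : X') (hw : w ∈ ν ⁻¹ᵁ V) (a : Γ(X, V)) :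
    X'.presheaf.germ (ν ⁻¹ᵁ V) w hw (ν.app V a) = ν.stalkMap w (X.presheaf.germ V (ν w) (memOf hw) a) :=
  (Scheme.Hom.germ_stalkMap_apply ν V w hw a).symm

theorem germ_res {Z : Scheme.{u}} {V V' : Z.Opens} (h : V' ≤ V) (x : Z) (hx : x ∈ V') (s : Γ(Z, V)) :
    Z.presheaf.germ V' x hx (Z.presheaf.map (homOfLE h).op s) = Z.presheaf.germ V x (h hx) s :=
  TopCat.Presheaf.germ_res_apply Z.presheaf (homOfLE h) x hx s

/-- Sections with the same germ agree near the point. -/
theorem exists_eq {Z : Scheme.{u}} {V V' : Z.Opens} (x : Z) (hx : x ∈ V) (hx' : x ∈ V') (s : Γ(Z, V))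
    (s' : Γ(Z, V')) (e : Z.presheaf.germ V x hx s = Z.presheaf.germ V' x hx' s') :
    ∃ (N : Z.Opens) (_ : x ∈ N) (h : N ≤ V) (h' : N ≤ V'), Z.presheaf.map (homOfLE h).op s =
      Z.presheaf.map (homOfLE h').op s' := by
  obtain ⟨N, hN, i1, i2, e⟩ := TopCat.Presheaf.germ_eq Z.presheaf x hx hx' _ _ e
  exact ⟨N, hN, i1.le, i2.le, e⟩

theorem app_res {V V' : X.Opens} (h : V' ≤ V) (a : Γ(X, V)) :
    ν.app V' (X.presheaf.map (homOfLE h).op a) =
      X'.presheaf.map (homOfLE (ν.preimage_mono h)).op (ν.app V a) := by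
  have := ν.naturality (homOfLE h).op
  exact congr($this a)

theorem injective_app [IsReduced X] (hU : Dense (U : Set X)) (hν : IsIso (ν ∣_ U)) (V : X.Opens) :
    Function.Injective (ν.app V) := by
  intro a b hab
  refine eq_of_dense hU fun x hx hxU => ?_
  obtain ⟨w, rfl⟩ := exists_preimage hν x hxU
  apply (bijective_stalkMap hν w hxU).1
  rw [← germ_app w hx, ← germ_app w hx, hab]

theorem bijective_app (hν : IsIso (ν ∣_ U)) (V : X.Opens) (hV : V ≤ U) : Function.Bijective (ν.app V) := by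
  have h1 := morphismRestrict_app ν U (U.ι ⁻¹ᵁ V)
  have h2 : U.ι ''ᵁ U.ι ⁻¹ᵁ V = V := by
    simpa [Scheme.Hom.image_preimage_eq_opensRange_inf] using hV
  have h3 : IsIso (ν.app (U.ι ''ᵁ U.ι ⁻¹ᵁ V)) := by
    have : IsIso ((ν ∣_ U).app (U.ι ⁻¹ᵁ V)) := inferInstance
    rw [h1] at this
    have h4 : IsIso (X'.presheaf.map (eqToHom (image_morphismRestrict_preimage ν U (U.ι ⁻¹ᵁ V))).op) := inferInstance
    exact @IsIso.of_isIso_comp_right _ _ _ _ _ _ _ h4 this
  rw [h2] at h3
  exact ConcreteCategory.bijective_of_isIso (ν.app V)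

/-- Sections over affine opens are fractions. -/
theorem exists_den [IsReduced X] [IsLocallyNoetherian X] [IsAffineHom ν] (hU : Dense (U : Set X)) (hν : IsIso (ν ∣_ U))
    {V : X.Opens} (hV : IsAffineOpen V) (b : Γ(X', ν ⁻¹ᵁ V)) :
    ∃ s a : Γ(X, V), s ∈ nonZeroDivisors Γ(X, V) ∧ ν.app V s * b = ν.app V a := by
  have hN : IsNoetherianRing Γ(X, V) := IsLocallyNoetherian.component_noetherian ⟨V, hV⟩
  let I : Ideal Γ(X, V) :=
    { carrier := {s | ∃ a, ν.app V s * b = ν.app V a}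
      zero_mem' := ⟨0, by rw [map_zero, zero_mul]⟩
      add_mem' := by
        rintro s t ⟨a, ha⟩ ⟨c, hc⟩
        exact ⟨a + c, by rw [map_add, add_mul, ha, hc, map_add]⟩
      smul_mem' := by
        rintro r s ⟨a, ha⟩
        exact ⟨r * a, by rw [smul_eq_mul, map_mul, mul_assoc, ha, map_mul]⟩ }
  by_cases hI : Disjoint (I : Set Γ(X, V)) (nonZeroDivisors Γ(X, V))
  · exfalso
    obtain ⟨x, hx, hx0⟩ := SetLike.exists_of_lt (Ideal.bot_lt_annihilator_of_disjoint_nonZeroDivisors hI)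
    apply hx0
    rw [Ideal.mem_bot]
    refine eq_of_dense hU fun y hy hyU => ?_
    rw [map_zero]
    obtain ⟨f, hf, hyf⟩ := hV.exists_basicOpen_le (V := U) ⟨y, hyU⟩ hy
    have hle : ν ⁻¹ᵁ X.basicOpen f ≤ ν ⁻¹ᵁ V := ν.preimage_mono (X.basicOpen_le f)
    obtain ⟨a', ha'⟩ := (bijective_app hν _ hf).2 (X'.presheaf.map (homOfLE hle).op b)
    have hloc := hV.isLocalization_basicOpen f
    obtain ⟨n, a, hna⟩ := IsLocalization.Away.surj f a'
    have key : ∃ m : ℕ, (ν.app V f) ^ m * ((ν.app V f) ^ n * b) = (ν.app V f) ^ m * ν.app V a := by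
      have e1 : ν.app (X.basicOpen f) (X.presheaf.map (homOfLE (X.basicOpen_le f)).op a) =
          X'.presheaf.map (homOfLE hle).op (ν.app V a) := app_res _ _
      have e2 : ν.app (X.basicOpen f) (X.presheaf.map (homOfLE (X.basicOpen_le f)).op f) =
          X'.presheaf.map (homOfLE hle).op (ν.app V f) := app_res _ _
      have e3 : a' * X.presheaf.map (homOfLE (X.basicOpen_le f)).op f ^ n =
          X.presheaf.map (homOfLE (X.basicOpen_le f)).op a := hna
      have e4 := congrArg (ν.app (X.basicOpen f)) e3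
      rw [map_mul, map_pow, ha', e1, e2, ← map_pow, ← map_mul] at e4
      have hle' : X'.basicOpen (ν.app V f) ≤ ν ⁻¹ᵁ X.basicOpen f := by
        rw [Scheme.preimage_basicOpen]
      obtain ⟨m, hm⟩ := exists_pow_mul_eq_zero_of_res_basicOpen_eq_zero_of_isAffineOpen X' (hV.preimage ν)
        (ν.app V f ^ n * b - ν.app V a) (ν.app V f) (by
          have e5 := congrArg (X'.presheaf.map (homOfLE hle').op) e4
          rw [← CommRingCat.comp_apply, ← CommRingCat.comp_apply, ← Functor.map_comp] at e5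
          change X'.presheaf.map (homOfLE (X'.basicOpen_le _)).op _ = 0
          rw [map_sub, sub_eq_zero, mul_comm]
          exact e5)
      refine ⟨m, ?_⟩
      rwa [mul_sub, sub_eq_zero] at hm
    obtain ⟨m, hm⟩ := key
    have hmem : f ^ (m + n) ∈ I := ⟨f ^ m * a, by
      rw [map_pow, pow_add, mul_assoc, hm, map_mul, map_pow]⟩
    have h1 : x * f ^ (m + n) = 0 := by
      rw [Module.mem_annihilator] at hx
      have := hx ⟨f ^ (m + n), hmem⟩
      exact congrArg Subtype.val this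
    have h2 := congrArg (X.presheaf.germ V y hy) h1
    rw [map_mul, map_zero, map_pow] at h2
    have h3 : IsUnit (X.presheaf.germ V y hy f) := (Scheme.mem_basicOpen _ _ _ hy).1 hyf
    exact (h3.pow _).mul_left_eq_zero.1 h2
  · rw [Set.not_disjoint_iff] at hI
    obtain ⟨s, ⟨a, ha⟩, hs⟩ := hI
    exact ⟨s, a, hs, ha⟩

/-- Nonzerodivisors on affine opens have germs which are nonzerodivisors. -/
theorem germ_mem_nonZeroDivisors {V : X.Opens} (hV : IsAffineOpen V) {s : Γ(X, V)}
    (hs : s ∈ nonZeroDivisors Γ(X, V)) (x : X) (hx : x ∈ V) :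
    X.presheaf.germ V x hx s ∈ nonZeroDivisors (X.presheaf.stalk x) := by
  let _ := X.presheaf.algebra_section_stalk ⟨x, hx⟩
  have hloc : IsLocalization.AtPrime (X.presheaf.stalk x) (hV.primeIdealOf ⟨x, hx⟩).asIdeal :=
    hV.isLocalization_stalk ⟨x, hx⟩
  exact IsLocalization.map_nonZeroDivisors_le (hV.primeIdealOf ⟨x, hx⟩).asIdeal.primeCompl _ ⟨s, hs, rfl⟩

/-- Nonzerodivisors on affine opens have nonzero germs on the normalization. -/
theorem germ_app_ne_zero (hU' : Dense ((ν ⁻¹ᵁ U : X'.Opens) : Set X')) (hν : IsIso (ν ∣_ U)) {V : X.Opens}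
    (hV : IsAffineOpen V) {s : Γ(X, V)} (hs : s ∈ nonZeroDivisors Γ(X, V)) (w : X') (hw : w ∈ ν ⁻¹ᵁ V) :
    X'.presheaf.germ (ν ⁻¹ᵁ V) w hw (ν.app V s) ≠ 0 := by
  intro h0
  rw [← map_zero (X'.presheaf.germ (ν ⁻¹ᵁ V) w hw).hom] at h0
  obtain ⟨N, hwN, i1, i2, e⟩ := TopCat.Presheaf.germ_eq X'.presheaf w hw hw _ _ h0
  obtain ⟨v, hv1, hv2⟩ := hU'.inter_open_nonempty _ N.isOpen ⟨w, hwN⟩
  have hvV : v ∈ ν ⁻¹ᵁ V := i1.le hv1
  have h1 : X'.presheaf.germ (ν ⁻¹ᵁ V) v hvV (ν.app V s) = 0 := by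
    rw [← TopCat.Presheaf.germ_res_apply X'.presheaf i1 v hv1, e, map_zero, map_zero]
  rw [germ_app] at h1
  have h2 : X.presheaf.germ V (ν v) hvV s = 0 := by
    apply (bijective_stalkMap hν v hv2).1
    rw [h1, map_zero]
  have h3 := germ_mem_nonZeroDivisors hV hs (ν v) hvV
  rw [h2] at h3
  exact zero_notMem_nonZeroDivisors h3

theorem intPair_germ [IsReduced X] [IsIntegralHom ν] (hU : Dense (U : Set X)) (hν : IsIso (ν ∣_ U))
    {V : X.Opens} (hV : IsAffineOpen V) {s a : Γ(X, V)} {b : Γ(X', ν ⁻¹ᵁ V)}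
    (h : ν.app V s * b = ν.app V a) (x : X) (hx : x ∈ V) :
    IntPair (X.presheaf.germ V x hx a) (X.presheaf.germ V x hx s) := by
  refine IntPair.map (X.presheaf.germ V x hx).hom ?_
  exact IntPair.of_isIntegral (ν.app V).hom (injective_app hU hν V) (ν.isIntegral_app V hV b) h

/-- A fraction which is an element of the local ring at `x` descends near `x`. -/
theorem exists_descend (hX' : ∀ w : X', IsDomain (X'.presheaf.stalk w))
    (hU' : Dense ((ν ⁻¹ᵁ U : X'.Opens) : Set X')) (hν : IsIso (ν ∣_ U)) {V : X.Opens}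
    (hV : IsAffineOpen V) {s a : Γ(X, V)} (hs : s ∈ nonZeroDivisors Γ(X, V)) {b : Γ(X', ν ⁻¹ᵁ V)}
    (h : ν.app V s * b = ν.app V a) (x : X) (hx : x ∈ V) (σ : X.presheaf.stalk x)
    (hσ : X.presheaf.germ V x hx a = X.presheaf.germ V x hx s * σ) :
    ∃ (V' : X.Opens) (hV' : V' ≤ V) (hx' : x ∈ V') (r : Γ(X, V')),
      X'.presheaf.map (homOfLE (ν.preimage_mono hV')).op b = ν.app V' r ∧ X.presheaf.germ V' x hx' r = σ := by
  obtain ⟨V₁, hx₁, r₁, rfl⟩ := TopCat.Presheaf.exists_germ_eq X.presheaf σ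
  have h1 : X.presheaf.germ V x hx a = X.presheaf.germ (V ⊓ V₁) x ⟨hx, hx₁⟩
      (X.presheaf.map (homOfLE inf_le_left).op s * X.presheaf.map (homOfLE inf_le_right).op r₁) := by
    rw [map_mul]
    exact hσ.trans (congrArg₂ (· * ·) (germ_res inf_le_left x ⟨hx, hx₁⟩ s).symm
      (germ_res inf_le_right x ⟨hx, hx₁⟩ r₁).symm)
  obtain ⟨V', hx', h1', h2', e⟩ := exists_eq x _ _ _ _ h1
  refine ⟨V', h1', hx', X.presheaf.map (homOfLE (h2'.trans inf_le_right)).op r₁, ?_, ?_⟩
  · refine section_ext fun w hw => ?_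
    have hwV : w ∈ ν ⁻¹ᵁ V := h1' hw
    have := hX' w
    apply mul_left_cancel₀ (germ_app_ne_zero hU' hν hV hs w hwV)
    have e1 : X'.presheaf.germ (ν ⁻¹ᵁ V') w hw (X'.presheaf.map (homOfLE (ν.preimage_mono h1')).op b) =
        X'.presheaf.germ (ν ⁻¹ᵁ V) w hwV b := germ_res _ _ _ _
    rw [e1, ← map_mul, h, germ_app, germ_app, germ_app, ← map_mul]
    have hw' : ν w ∈ V' := hw
    have hwV' : ν w ∈ V := hwV
    have e2 : X.presheaf.germ V (ν w) hwV' a =
        X.presheaf.germ V (ν w) hwV' s *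
          X.presheaf.germ V' (ν w) hw' (X.presheaf.map (homOfLE (h2'.trans inf_le_right)).op r₁) := by
      rw [← germ_res h1' (ν w) hw' a, e, map_mul, map_mul]
      congr 1
      · rw [germ_res, germ_res]
      · rw [germ_res, germ_res, germ_res]
    exact congrArg (ν.stalkMap w) e2
  · exact germ_res _ _ _ _

attribute [local instance] Curv2.stalkAlgebra

section Curve

open Groth.Agent.CurvesB Groth.Agent.CurvesB.NodeSch2 Groth.Agent.CurvesB.Node Groth.Agent.VarietyA.GeomRed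

variable (k : Type u) [Field k] [IsAlgClosed k] (X) [X.Over (Spec (CommRingCat.of k))]
  [LocallyOfFiniteType (X ↘ (Spec (CommRingCat.of k)))]

theorem isReduced_of_atWorstNodal (hX : Curv2.AtWorstNodal k X) : IsReduced X := by
  have h3 := geometricallyReduced_of_atWorstNodal k hX
  have h4 := (geometricallyReduced_iff_forall_stalk k X).mp h3
  have : ∀ x : X, _root_.IsReduced (X.presheaf.stalk x) := fun x => by
    have := h4 x
    exact Algebra.isReduced_of_isGeometricallyReduced k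
  exact isReduced_of_isReduced_stalk X

/-- Every local ring of an at-worst-nodal curve is a normal domain or an ordinary double point. -/
theorem normal_or_node (hdim : topologicalKrullDim X ≤ 1) (hX : Curv2.AtWorstNodal k X) (x : X) :
    (IsDomain (X.presheaf.stalk x) ∧ IsIntegrallyClosed (X.presheaf.stalk x)) ∨ Curv2.IsNode k X x := by
  by_cases hx : IsClosed ({x} : Set X)
  · rcases hX x hx with h | h
    · have := isRegularLocalRing_of_exists k x h
      exact Or.inl ⟨Groth.Agent.CurvesC.RegNormal.isDomain _, Groth.Agent.CurvesC.RegNormal.isIntegrallyClosed _⟩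
    · exact Or.inr h
  · have h1 := krullDimLE_one_stalk hdim x
    have h2 := DimPts.ringKrullDim_stalk_eq_zero_of_not_isClosed hdim x hx
    have : IsReduced X := isReduced_of_atWorstNodal X k hX
    have : IsLocallyNoetherian X :=
      isLocallyNoetherian_of_locallyOfFiniteType (X ↘ (Spec (CommRingCat.of k)))
    have h6 : Ring.KrullDimLE 0 (X.presheaf.stalk x) := by
      rw [Ring.krullDimLE_iff, h2]; rfl
    have := Ring.KrullDimLE.isField_of_isReduced (R := X.presheaf.stalk x)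
    left
    let _ := this.toField
    exact ⟨inferInstance, inferInstance⟩

theorem exists_isBranch_of_isNode (x : X) (h : Curv2.IsNode k X x) :
    letI := Curv2.stalkAlgebra k X x
    ∃ φ ψ : X.presheaf.stalk x →+* PowerSeries k, IsBranch k φ ψ := by
  let _ := Curv2.stalkAlgebra k X x
  have : IsLocallyNoetherian X :=
    isLocallyNoetherian_of_locallyOfFiniteType (X ↘ (Spec (CommRingCat.of k)))
  have h1 : Curv2.IsOrdDoublePt k (X.presheaf.stalk x) :=
    (isOrdDoublePt_iff (X ↘ (Spec (CommRingCat.of k))) x).2 ((isNode_iff_resFS k X x).1 h)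
  exact exists_isBranch h1

end Curve

end K324.NodeNorm
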