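import Groth.Agent.Dix.InterNum
import Groth.Agent.CurvesB.TwistIdeal
import Groth.Agent.CurvesB.CurveRR
import Groth.Agent.AbSch.K448.SmoothConn
import Groth.Agent.Fdesc.LocGen
import Groth.Agent.CurvesB.HZero
import Groth.Agent.CurvesB.InvEmb
import Groth.Agent.S0002
import Groth.Agent.S1518
import Groth.Agent.S1520
import Groth.Agent.S1521
import Groth.Agent.S1536
import Groth.Prelude.Def_Curve

/-!
# Riemann–Roch bookkeeping on integral proper curves over a field
-/

set_option autoImplicit false
universe u
open CategoryTheory CategoryTheory.Limits AlgebraicGeometry Opposite TopologicalSpace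

namespace K324.Basic

open Groth.Agent Groth.Agent.CurvesB Groth.Agent.Fdesc

variable {X : Scheme.{u}}

/-- A nonzero class in `H^0(M)` gives a nonzero section `O → M`. -/
theorem exists_hom_of_ne_zero (M : X.Modules) (x : Coh.HH X M 0) (hx : x ≠ 0) :
    ∃ s : Coh.structureModule X ⟶ M, s ≠ 0 := by
  refine ⟨LocGen.homOf (HZero.equivAdd M x), fun h => ?_⟩
  have h1 : HZero.equivAdd M x ≠ 0 := by simpa using hx
  apply h1
  have h2 := LocGen.sec_homOf (HZero.equivAdd M x) ⊤
  rw [LocGen.res_refl, h] at h2
  exact h2.symm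

theorem ne_zero_of_hom (M : X.Modules) (s : Coh.structureModule X ⟶ M) (hs : s ≠ 0) :
    Nontrivial (Coh.HH X M 0) := by
  refine ⟨⟨(HZero.equivAdd M).symm (LocGen.sec s ⊤), 0, fun h => hs ?_⟩⟩
  have h1 : LocGen.sec s ⊤ = 0 := by simpa using h
  rw [← LocGen.homOf_sec s, h1]
  apply LocGen.hom_ext_sec
  rw [LocGen.sec_homOf, LocGen.res_refl]
  rfl

/-- The module of sections is nontrivial iff there is a nonzero map from the structure sheaf. -/
theorem nontrivial_H0_iff (M : X.Modules) :
    Nontrivial (Coh.HH X M 0) ↔ ∃ s : Coh.structureModule X ⟶ M, s ≠ 0 := by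
  constructor
  · intro h
    obtain ⟨x, hx⟩ := exists_ne (0 : Coh.HH X M 0)
    exact exists_hom_of_ne_zero M x hx
  · rintro ⟨s, hs⟩
    exact ne_zero_of_hom M s hs

variable (k : Type u) [Field k] (X) [X.Over (Spec (CommRingCat.of k))]
  [IsIntegral X] [IsProper (X ↘ (Spec (CommRingCat.of k)))]

omit [IsIntegral X] in
theorem finite_H {M : X.Modules} (hM : PicF.IsInvertible M) (n : ℕ) :
    Module.Finite k (Coh.HH X M n) :=
  have := CurveRR.isNoetherian_of_proper k X
  S0002.result k X M (S2329.isCoh_of_isInvertible hM) n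

omit [IsIntegral X] in
theorem finite_H_unit (n : ℕ) : Module.Finite k (Coh.HH X (Coh.structureModule X) n) :=
  finite_H X k LocGen.isInvertible_structureModule n

/-- On an integral proper curve an invertible module of negative degree has no sections. -/
theorem H0_subsingleton_of_deg_neg (hdim : topologicalKrullDim X = 1) {L : X.Modules}
    (hL : PicF.IsInvertible L) (h : Curv2.deg k X L 1 < 0) : Subsingleton (Coh.HH X L 0) := by
  by_contra hc
  rw [not_subsingleton_iff_nontrivial, nontrivial_H0_iff] at hc
  obtain ⟨s, hs⟩ := hc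
  have := S1518.result k X hdim L hL s hs
  omega

omit [IsIntegral X] in
/-- Riemann–Roch. -/
theorem riemannRoch (hdim : topologicalKrullDim X = 1)
    (h0 : Module.finrank k (Coh.HH X (Coh.structureModule X) 0) = 1) (L : X.Modules) :
    (Module.finrank k (Coh.HH X L 0) : ℤ) - (Module.finrank k (Coh.HH X L 1) : ℤ) =
      Curv2.deg k X L 1 + 1 - (Curv2.genus k X : ℤ) := by
  have := CurveRR.isNoetherian_of_proper k X
  rw [CurveRR.deg_eq k X hdim.le, h0]
  push_cast
  ring

/-- Vanishing of `H^1` in degree at least `2g - 1`. -/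
theorem H1_subsingleton (hdim : topologicalKrullDim X = 1)
    (h0 : Module.finrank k (Coh.HH X (Coh.structureModule X) 0) = 1) {L : X.Modules}
    (hL : PicF.IsInvertible L) (hdeg : 2 * (Curv2.genus k X : ℤ) - 1 ≤ Curv2.deg k X L 1) :
    Subsingleton (Coh.HH X L 1) := by
  have := CurveRR.isNoetherian_of_proper k X
  by_contra hc
  rw [not_subsingleton_iff_nontrivial] at hc
  have f1 := finite_H_unit X k 1
  have f2 := finite_H X k hL 1
  have h1 := CurveRR.finrank_H0_le_genus k hdim.le (InvEmb.locEmb_of_isInvertible hL) hc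
  have h2 : 0 < Module.finrank k (Coh.HH X L 1) := Module.finrank_pos
  have h3 := riemannRoch X k hdim h0 L
  omega

omit [IsIntegral X] [IsProper (X ↘ (Spec (CommRingCat.of k)))] in
/-- A smooth geometrically connected proper curve is integral with `H^0(O) = k`. -/
theorem isIntegral_of_smooth [Smooth (X ↘ (Spec (CommRingCat.of k)))]
    [GeometricallyConnected (X ↘ (Spec (CommRingCat.of k)))] : IsIntegral X := by
  have h := K448.SmoothConn.geometricallyIntegral (X ↘ (Spec (CommRingCat.of k)))
  have : IsIntegral (Spec (CommRingCat.of k)) := inferInstance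
  exact GeometricallyIntegral.geometrically_isIntegral (f := X ↘ (Spec (CommRingCat.of k)))
    (𝟙 (Spec (CommRingCat.of k))) (𝟙 X) (X ↘ (Spec (CommRingCat.of k)))
    (IsPullback.of_horiz_isIso ⟨by simp⟩)

omit [IsIntegral X] in
theorem finrank_H0_of_smooth [Smooth (X ↘ (Spec (CommRingCat.of k)))]
    [GeometricallyConnected (X ↘ (Spec (CommRingCat.of k)))] :
    Module.finrank k (Coh.HH X (Coh.structureModule X) 0) = 1 := by
  have h := K448.SmoothConn.geometricallyReduced (X ↘ (Spec (CommRingCat.of k)))
  exact S1536.result k X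

end K324.Basic
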