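import Groth.Agent.S15287
import Groth.Agent.S1530
import Groth.Agent.S2329
import Groth.Agent.Ega2.TensMon

/-!
# A power of a positive line bundle has a section generating it at finitely many points
-/

set_option autoImplicit false
universe u

open CategoryTheory CategoryTheory.Limits AlgebraicGeometry TopologicalSpace Opposite

namespace K324.CovSect

theorem isInvertible_structureModule (X : Scheme.{u}) : PicF.IsInvertible (Coh.structureModule X) :=
  fun _ => ⟨⊤, trivial, ⟨Scheme.Modules.restrictUnitIso _⟩⟩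

theorem exists_section (k : Type u) [Field k] (C : Scheme.{u}) [C.Over (Spec (CommRingCat.of k))]
    [IsIntegral C] [IsProper (C ↘ (Spec (CommRingCat.of k)))] (hdim : topologicalKrullDim C = 1)
    (E : C.Modules) (hE : PicF.IsInvertible E) (hdeg : 0 < Curv2.deg k C E 1) (T : Set C) (hT : T.Finite) :
    ∃ n : ℕ, (n : k) ≠ 0 ∧ ∃ s : Coh.structureModule C ⟶ CohB1.tensorPow E n,
      ∀ y ∈ T, y ∈ CohB1.genLocus (CohB1.tensorPow E n) s := by
  have hA : CohB1.IsAmple E := (Groth.Agent.S1530.result k C hdim E hE).2 hdeg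
  have hfin : Finite T := hT
  obtain ⟨m, ⟨em⟩⟩ := Finite.exists_equiv_fin T
  obtain ⟨N₀, hN₀⟩ := Groth.Agent.S15287.result k C (C ↘ (Spec (CommRingCat.of k))) E hA
    (Coh.structureModule C) (isInvertible_structureModule C) (Fin m) (fun i => ((em.symm i : T) : C))
  have key : ∀ N, N₀ ≤ N → ∃ s : Coh.structureModule C ⟶ CohB1.tensorPow E N,
      ∀ y ∈ T, y ∈ CohB1.genLocus (CohB1.tensorPow E N) s := by
    intro N hN
    obtain ⟨s, hs⟩ := hN₀ N hN
    refine ⟨s ≫ (Groth.Agent.Ega2.Tens.lunit (CohB1.tensorPow E N)).hom, fun y hy => ?_⟩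
    rw [Groth.Agent.S2329.genLocus_comp_iso]
    have h1 := hs (em ⟨y, hy⟩)
    rwa [Equiv.symm_apply_apply] at h1
  by_cases h0 : (N₀ : k) = 0
  · refine ⟨N₀ + 1, ?_, key _ (Nat.le_succ _)⟩
    rw [Nat.cast_add, h0, zero_add, Nat.cast_one]
    exact one_ne_zero
  · exact ⟨N₀, h0, key _ le_rfl⟩

end K324.CovSect
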