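import Groth.Agent.Curves.K324.NormExt
import Groth.Agent.Ega2.TensGen
import Groth.Agent.Fdesc.LocGenPullback

/-!
# The tautological section of a line bundle on a root cover
-/

set_option autoImplicit false
universe u

open CategoryTheory CategoryTheory.Limits AlgebraicGeometry TopologicalSpace Opposite
open Groth.Agent.Fdesc.LocGen

namespace K324.KumSec

open NormExt

variable {C : Scheme.{u}} [IsIntegral C] (L : Type u) [Field L] [Algebra C.functionField L] {E : C.Modules}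

/-- The value of a function at the generic point. -/
noncomputable def val (V : C.Opens) (hg : genericPoint C ∈ V) : Γ(C, V) →+* L :=
  (algebraMap C.functionField L).comp (C.presheaf.germ V (genericPoint C) hg).hom

theorem val_ores {V W : C.Opens} (h : W ≤ V) (hg : genericPoint C ∈ W) (a : Γ(C, V)) :
    val L W hg (ores h a) = val L V (h hg) a := by
  have h1 : C.presheaf.germ W (genericPoint C) hg (ores h a) = C.presheaf.germ V (genericPoint C) (h hg) a :=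
    congr($(C.presheaf.germ_res (homOfLE h) (genericPoint C) hg) a)
  exact congrArg (algebraMap C.functionField L) h1

theorem gp_mem {V : C.Opens} {x : C} (hx : x ∈ V) : genericPoint C ∈ V :=
  (genericPoint_specializes x).mem_open V.isOpen hx

theorem gp_inf {V W : C.Opens} (h : genericPoint C ∈ V) (h' : genericPoint C ∈ W) : genericPoint C ∈ V ⊓ W := ⟨h, h'⟩

theorem ev_congr {Z : Scheme.{u}} {p q : Spec (CommRingCat.of L) ⟶ Z} (e : p = q) (V : Z.Opens) (h : ∀ x, p x ∈ V)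
    (h' : ∀ x, q x ∈ V) (a : Γ(Z, V)) : ev p V h a = ev q V h' a := by
  subst e
  rfl

variable {C' : Scheme.{u}} (π : C' ⟶ C) (p : Spec (CommRingCat.of L) ⟶ C') (hp : p ≫ π = gen L)

include hp in
theorem p_mem {V : C.Opens} (hg : genericPoint C ∈ V) (x : Spec (CommRingCat.of L)) : p x ∈ π ⁻¹ᵁ V := by
  change π (p x) ∈ V
  rw [← Scheme.Hom.comp_apply, hp, gen_eq]
  exact hg

include hp in
theorem ev_app {V : C.Opens} (hg : genericPoint C ∈ V) (a : Γ(C, V)) (h : ∀ x, p x ∈ π ⁻¹ᵁ V) :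
    ev p (π ⁻¹ᵁ V) h (π.app V a) = val L V hg a := by
  have h1 : ∀ x, (p ≫ π) x ∈ V := fun x => by rw [hp]; exact gen_mem L V hg x
  rw [← ev_comp p π V h1 h a, ev_congr L hp V h1 (gen_mem L V hg) a]
  exact ev_gen L V hg a

/-- Local data of the root of the section on the cover. -/
structure Loc (n : ℕ) (s : Coh.structureModule C ⟶ CohB1.tensorPow E n) {V₀ : C.Opens} (e₀ : Γ(E, V₀))
    (hV₀ : genericPoint C ∈ V₀) (α : L) (x : C) where
  V : C.Opens
  affine : IsAffineOpen V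
  mem : x ∈ V
  e : Γ(E, V)
  isGen : IsGen e
  h : Γ(C, V)
  hs : sec s V = h • Groth.Agent.Fdesc.LocGen.pow e n
  u : Γ(C, V ⊓ V₀)
  hu : res E (inf_le_right : V ⊓ V₀ ≤ V₀) e₀ = u • res E inf_le_left e
  isUnit_u : IsUnit u
  b : Γ(C', π ⁻¹ᵁ V)
  hb : ev p (π ⁻¹ᵁ V) (p_mem L π p hp (gp_mem mem)) b = α * val L (V ⊓ V₀) (gp_inf (gp_mem mem) hV₀) u
  hn : (α * val L (V ⊓ V₀) (gp_inf (gp_mem mem) hV₀) u) ^ n = val L V (gp_mem mem) h

/-- Existence of the local data. -/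
theorem exists_loc (hE : PicF.IsInvertible E) (n : ℕ) (hn : n ≠ 0)
    (s : Coh.structureModule C ⟶ CohB1.tensorPow E n) {V₀ : C.Opens} (e₀ : Γ(E, V₀)) (he₀ : IsGen e₀)
    (hV₀ : genericPoint C ∈ V₀) (h₀ : Γ(C, V₀)) (hh₀ : sec s V₀ = h₀ • Groth.Agent.Fdesc.LocGen.pow e₀ n) (α : L)
    (hα : α ^ n = val L V₀ hV₀ h₀)
    (hex : ∀ {V : C.Opens} (_ : IsAffineOpen V) (hg : genericPoint C ∈ V) (z : L), (val L V hg).IsIntegralElem z →
      ∃ b : Γ(C', π ⁻¹ᵁ V), ev p _ (p_mem L π p hp hg) b = z) (x : C) :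
    Nonempty (Loc L π p hp n s e₀ hV₀ α x) := by
  obtain ⟨V, e, hx, -, hV, he⟩ := Groth.Agent.Ega2.TensGen.exists_affine_gen hE x (V := ⊤) trivial
  obtain ⟨h, hh⟩ := (he.pow n).exists_eq (sec s V)
  obtain ⟨u, hu, hu'⟩ := (he.res (inf_le_left : V ⊓ V₀ ≤ V)).exists_unit (he₀.res (inf_le_right : V ⊓ V₀ ≤ V₀))
  have hgi := gp_inf (gp_mem hx) hV₀
  have key : ores (inf_le_left : V ⊓ V₀ ≤ V) h = ores (inf_le_right : V ⊓ V₀ ≤ V₀) h₀ * u ^ n := by
    refine ((he.res (inf_le_left : V ⊓ V₀ ≤ V)).pow n).ext ?_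
    have h1 := congrArg (res (CohB1.tensorPow E n) (inf_le_left : V ⊓ V₀ ≤ V)) hh
    have h2 := congrArg (res (CohB1.tensorPow E n) (inf_le_right : V ⊓ V₀ ≤ V₀)) hh₀
    rw [res_smul, res_sec, res_pow] at h1 h2
    rw [← h1, h2, hu', Groth.Agent.Fdesc.LocGen.smul_pow, mul_smul]
  have key' : (α * val L (V ⊓ V₀) hgi u) ^ n = val L V (gp_mem hx) h := by
    have h1 := congrArg (val L (V ⊓ V₀) hgi) key
    rw [val_ores, map_mul, val_ores, map_pow] at h1
    rw [mul_pow, hα, h1]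
  have hint : (val L V (gp_mem hx)).IsIntegralElem (α * val L (V ⊓ V₀) hgi u) := by
    refine ⟨Polynomial.X ^ n - Polynomial.C h, Polynomial.monic_X_pow_sub_C h hn, ?_⟩
    rw [Polynomial.eval₂_sub, Polynomial.eval₂_X_pow, Polynomial.eval₂_C, key', sub_self]
  obtain ⟨b, hb⟩ := hex hV (gp_mem hx) _ hint
  exact ⟨⟨V, hV, hx, e, he, h, hh, u, hu', hu, b, hb, key'⟩⟩

/-- Evaluation commutes with restriction. -/
theorem ev_ores {W W' : C'.Opens} (i : W' ≤ W) (h : ∀ x, p x ∈ W') (a : Γ(C', W)) :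
    ev p W' h (ores i a) = ev p W (fun x => i (h x)) a := ev_res p i h a

/-- The local sections agree on overlaps. -/
theorem agree [IsReduced C'] [IsDominant p] {n : ℕ} {s : Coh.structureModule C ⟶ CohB1.tensorPow E n}
    {V₀ : C.Opens} {e₀ : Γ(E, V₀)} {hV₀ : genericPoint C ∈ V₀} {α : L} {x y : C}
    (l : Loc L π p hp n s e₀ hV₀ α x) (l' : Loc L π p hp n s e₀ hV₀ α y) :
    res ((Scheme.Modules.pullback π).obj E) (π.preimage_mono (inf_le_left : l.V ⊓ l'.V ≤ l.V)) (l.b • pullSec π l.e) =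
    res ((Scheme.Modules.pullback π).obj E) (π.preimage_mono (inf_le_right : l.V ⊓ l'.V ≤ l'.V))
      (l'.b • pullSec π l'.e) := by
  obtain ⟨w, hw⟩ := (l'.isGen.res (inf_le_right : l.V ⊓ l'.V ≤ l'.V)).exists_eq
    (res E (inf_le_left : l.V ⊓ l'.V ≤ l.V) l.e)
  rw [res_smul, res_smul, res_pullSec π (inf_le_left : l.V ⊓ l'.V ≤ l.V),
    res_pullSec π (inf_le_right : l.V ⊓ l'.V ≤ l'.V), hw, pullSec_smul, smul_smul]
  congr 1
  have hg : genericPoint C ∈ l.V ⊓ l'.V := gp_inf (gp_mem l.mem) (gp_mem l'.mem)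
  have hg₀ : genericPoint C ∈ (l.V ⊓ l'.V) ⊓ V₀ := gp_inf hg hV₀
  have i₁ : (l.V ⊓ l'.V) ⊓ V₀ ≤ l.V ⊓ V₀ := inf_le_inf_right _ inf_le_left
  have i₂ : (l.V ⊓ l'.V) ⊓ V₀ ≤ l'.V ⊓ V₀ := inf_le_inf_right _ inf_le_right
  have key : ores i₁ l.u * ores (inf_le_left : (l.V ⊓ l'.V) ⊓ V₀ ≤ l.V ⊓ l'.V) w = ores i₂ l'.u := by
    refine (l'.isGen.res (inf_le_left.trans inf_le_right : (l.V ⊓ l'.V) ⊓ V₀ ≤ l'.V)).ext ?_
    have h1 := congrArg (res E i₁) l.hu
    have h2 := congrArg (res E i₂) l'.hu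
    have h3 := congrArg (res E (inf_le_left : (l.V ⊓ l'.V) ⊓ V₀ ≤ l.V ⊓ l'.V)) hw
    simp only [res_smul, res_res] at h1 h2 h3
    rw [mul_smul, ← h3, ← h1, ← h2]
  have key' : val L (l.V ⊓ V₀) (gp_inf (gp_mem l.mem) hV₀) l.u * val L (l.V ⊓ l'.V) hg w =
      val L (l'.V ⊓ V₀) (gp_inf (gp_mem l'.mem) hV₀) l'.u := by
    have h1 := congrArg (val L _ hg₀) key
    rwa [map_mul, val_ores, val_ores, val_ores] at h1
  apply ev_injective p (π ⁻¹ᵁ (l.V ⊓ l'.V)) (p_mem L π p hp hg)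
  rw [map_mul, ev_ores, ev_ores, ev_app L π p hp hg]
  have h1 := l.hb
  have h2 := l'.hb
  rw [h1, h2, mul_assoc, key']

/-- The global section. -/
theorem exists_section [IsReduced C'] [IsDominant p] {n : ℕ} {s : Coh.structureModule C ⟶ CohB1.tensorPow E n}
    {V₀ : C.Opens} {e₀ : Γ(E, V₀)} {hV₀ : genericPoint C ∈ V₀} {α : L} (hα : α ≠ 0)
    (l : ∀ x, Loc L π p hp n s e₀ hV₀ α x) :
    ∃ t : Coh.structureModule C' ⟶ (Scheme.Modules.pullback π).obj E, t ≠ 0 := by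
  obtain ⟨t, ht⟩ := res_glue ((Scheme.Modules.pullback π).obj E) (V := ⊤) (fun x : C => π ⁻¹ᵁ (l x).V)
    (fun x => le_top) (fun c _ => Opens.mem_iSup.2 ⟨π c, (l (π c)).mem⟩) (fun x => (l x).b • pullSec π (l x).e)
    (fun x y => agree L π p hp (l x) (l y))
  refine ⟨homOf t, fun h0 => ?_⟩
  have h1 : t = 0 := by
    have h2 := sec_homOf t ⊤
    rw [res_refl, h0] at h2
    rw [← h2]
    rfl
  let x := genericPoint C
  have h2 : (l x).b • pullSec π (l x).e = (0 : Γ(C', π ⁻¹ᵁ (l x).V)) • pullSec π (l x).e := by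
    rw [← ht x, h1, map_zero, zero_smul]
  have h3 := ((l x).isGen.pullSec π).ext h2
  have h4 := (l x).hb
  rw [h3, map_zero] at h4
  have h5 : IsUnit (val L ((l x).V ⊓ V₀) (gp_inf (gp_mem (l x).mem) hV₀) (l x).u) := (l x).isUnit_u.map _
  exact mul_ne_zero hα h5.ne_zero h4.symm

end K324.KumSec
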