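import Mathlib.RingTheory.Discriminant
import Mathlib.RingTheory.Norm.Transitivity
import Mathlib.FieldTheory.Minpoly.IsIntegrallyClosed
import Mathlib.RingTheory.Unramified.Basic
import Mathlib.FieldTheory.PrimitiveElement
import Mathlib.RingTheory.Kaehler.Basic

/-!
# Extracting an `n`-th root of a unit is unramified

`A` integrally closed with fraction field `K`, `L = K(z)` finite separable, `z ^ n = h` with `n` and `h` units of `A`.
Then the integral closure of `A` in `L` is `A[z]` and is formally unramified over `A`.
-/

set_option autoImplicit false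

open Polynomial

namespace K324.KummerUnr

theorem mem_adjoin {A K L : Type*} [CommRing A] [IsDomain A] [IsIntegrallyClosed A] [Field K] [Algebra A K]
    [IsFractionRing A K] [Field L] [Algebra K L] [Algebra A L] [IsScalarTower A K L] [FiniteDimensional K L]
    [Algebra.IsSeparable K L] (z : L) (hz : IntermediateField.adjoin K {z} = ⊤) {n : ℕ} (hn : IsUnit (n : A))
    {h : A} (hh : IsUnit h) (hzn : z ^ n = algebraMap A L h) {b : L} (hb : IsIntegral A b) :
    b ∈ Algebra.adjoin A {z} := by
  have hn0 : n ≠ 0 := by
    rintro rfl
    rw [Nat.cast_zero] at hn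
    exact not_isUnit_zero hn
  have hzA : z ∈ Algebra.adjoin A {z} := Algebra.self_mem_adjoin_singleton A z
  have hint : IsIntegral A z := by
    refine ⟨X ^ n - C h, monic_X_pow_sub_C h hn0, ?_⟩
    rw [eval₂_sub, eval₂_X_pow, eval₂_C, hzn, sub_self]
  have hinj : Function.Injective (algebraMap A L) := by
    rw [IsScalarTower.algebraMap_eq A K L]
    exact (algebraMap K L).injective.comp (IsFractionRing.injective A K)
  have htf : Module.IsTorsionFree A L := Module.isTorsionFree_iff_algebraMap_injective.2 hinj
  let pb : PowerBasis K L := (IntermediateField.adjoin.powerBasis (hint.tower_top : IsIntegral K z)).map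
    ((IntermediateField.equivOfEq hz).trans IntermediateField.topEquiv)
  have hgen : pb.gen = z := by
    change ((IntermediateField.equivOfEq hz).trans IntermediateField.topEquiv) _ = z
    rw [IntermediateField.adjoin.powerBasis_gen]
    rfl
  -- the derivative of the minimal polynomial at `z` is a unit of `A[z]`
  obtain ⟨q, hq⟩ : minpoly A z ∣ X ^ n - C h := by
    refine minpoly.isIntegrallyClosed_dvd hint ?_
    rw [map_sub, map_pow, aeval_X, aeval_C, hzn, sub_self]
  have hmin : minpoly K z = (minpoly A z).map (algebraMap A K) := minpoly.isIntegrallyClosed_eq_field_fractions K L hint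
  have hder : aeval z (minpoly A z).derivative * aeval z q = (n : L) * z ^ (n - 1) := by
    have h1 := congrArg (fun p => aeval z (derivative p)) hq
    simp only [derivative_mul, map_add, map_mul, minpoly.aeval, zero_mul, add_zero, derivative_sub, derivative_C,
      sub_zero, derivative_X_pow] at h1
    rw [← h1]
    simp
  obtain ⟨m, hm⟩ := hn.exists_right_inv
  obtain ⟨h', hh'⟩ := hh.exists_right_inv
  have hunit : ∃ w ∈ Algebra.adjoin A {z}, aeval z (minpoly A z).derivative * w = 1 := by
    refine ⟨aeval z q * (algebraMap A L (m * h') * z), ?_, ?_⟩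
    · exact mul_mem (aeval_mem_adjoin_singleton A z) (mul_mem (Subalgebra.algebraMap_mem _ _) hzA)
    · have e1 : z ^ (n - 1) * z = algebraMap A L h := by rw [← pow_succ, Nat.sub_add_cancel (by omega), hzn]
      have e2 : (n : L) * algebraMap A L m = 1 := by
        rw [← map_natCast (algebraMap A L), ← map_mul, hm, map_one]
      have e3 : algebraMap A L h * algebraMap A L h' = 1 := by rw [← map_mul, hh', map_one]
      rw [map_mul, ← mul_assoc, hder]
      linear_combination (n : L) * algebraMap A L m * algebraMap A L h' * e1 + (algebraMap A L h * algebraMap A L h') * e2 + e3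
  obtain ⟨w, hw, hw1⟩ := hunit
  have hwint : IsIntegral A w := IsIntegral.of_mem_of_fg _ hint.fg_adjoin_singleton w hw
  have hfint : IsIntegral A (aeval z (minpoly A z).derivative) :=
    IsIntegral.of_mem_of_fg _ hint.fg_adjoin_singleton _ (aeval_mem_adjoin_singleton A z)
  obtain ⟨d, hd⟩ := IsIntegrallyClosed.isIntegral_iff.1 (Algebra.isIntegral_norm K hfint)
  obtain ⟨d', hd'⟩ := IsIntegrallyClosed.isIntegral_iff.1 (Algebra.isIntegral_norm K hwint)
  have hdd : d * d' = 1 := by
    apply IsFractionRing.injective A K
    rw [map_mul, hd, hd', ← map_mul, hw1, map_one, map_one]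
  have key := Algebra.discr_mul_isIntegral_mem_adjoin (R := A) (K := K) (B := pb) (by rw [hgen]; exact hint) hb
  rw [Algebra.discr_powerBasis_eq_norm, hgen, hmin, derivative_map, aeval_map_algebraMap, ← hd] at key
  have e : ∀ N : ℕ, b = algebraMap A L ((-1) ^ N * d') * (((-1) ^ N * algebraMap A K d) • b) := by
    intro N
    have e1 : ((-1 : L) ^ N) * ((-1 : L) ^ N) = 1 := by
      rw [← mul_pow]; simp
    have e2 : algebraMap A L d * algebraMap A L d' = 1 := by rw [← map_mul, hdd, map_one]
    rw [Algebra.smul_def, map_mul, map_mul, map_pow, map_pow, map_neg, map_one, map_neg, map_one,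
      ← IsScalarTower.algebraMap_apply A K L]
    linear_combination -b * e2 - b * algebraMap A L d * algebraMap A L d' * e1
  have h1 := mul_mem (Subalgebra.algebraMap_mem (Algebra.adjoin A {z})
    ((-1) ^ (Module.finrank K L * (Module.finrank K L - 1) / 2) * d')) key
  rwa [← e] at h1

/-- The formally unramified statement. -/
theorem formallyUnramified {A K L B : Type*} [CommRing A] [IsDomain A] [IsIntegrallyClosed A] [Field K] [Algebra A K]
    [IsFractionRing A K] [Field L] [Algebra K L] [Algebra A L] [IsScalarTower A K L] [FiniteDimensional K L]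
    [Algebra.IsSeparable K L] [CommRing B] [Algebra A B] [Algebra B L] [IsScalarTower A B L] [Algebra.IsIntegral A B]
    (hBL : Function.Injective (algebraMap B L))
    (z : B) (hz : IntermediateField.adjoin K {algebraMap B L z} = ⊤) {n : ℕ} (hn : IsUnit (n : A))
    {h : A} (hh : IsUnit h) (hzn : z ^ n = algebraMap A B h) : Algebra.FormallyUnramified A B := by
  have hn0 : n ≠ 0 := by
    rintro rfl
    rw [Nat.cast_zero] at hn
    exact not_isUnit_zero hn
  have htop : Algebra.adjoin A {z} = ⊤ := by
    rw [eq_top_iff]
    intro b _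
    have h1 : algebraMap B L b ∈ Algebra.adjoin A {algebraMap B L z} :=
      mem_adjoin (K := K) _ hz hn hh (by rw [← map_pow, hzn, ← IsScalarTower.algebraMap_apply])
        ((Algebra.IsIntegral.isIntegral (R := A) b).map (IsScalarTower.toAlgHom A B L))
    have h2 : (Algebra.adjoin A {z}).map (IsScalarTower.toAlgHom A B L) = Algebra.adjoin A {algebraMap B L z} := by
      rw [AlgHom.map_adjoin, Set.image_singleton]
      rfl
    rw [← h2] at h1
    obtain ⟨b', hb', e⟩ := h1
    rwa [← hBL e]
  rw [Algebra.formallyUnramified_iff]
  have hD0 : KaehlerDifferential.D A B z = 0 := by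
    have h1 := congrArg (KaehlerDifferential.D A B) hzn
    rw [Derivation.leibniz_pow, Derivation.map_algebraMap] at h1
    have hzu : IsUnit z := by
      apply isUnit_of_mul_isUnit_left (y := z ^ (n - 1))
      rw [← pow_succ', Nat.sub_add_cancel (by omega), hzn]
      exact hh.map _
    have hnu : IsUnit (n : B) := by
      rw [← map_natCast (algebraMap A B)]
      exact hn.map _
    rw [← Nat.cast_smul_eq_nsmul B, smul_smul] at h1
    exact (hnu.mul (hzu.pow _)).smul_eq_zero.1 h1
  have hD : KaehlerDifferential.D A B = 0 := by
    refine Derivation.ext_of_adjoin_eq_top {z} htop ?_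
    rintro _ rfl
    rw [hD0]
    rfl
  rw [← not_nontrivial_iff_subsingleton]
  intro hnt
  obtain ⟨x, hx⟩ := exists_ne (0 : Ω[B⁄A])
  apply hx
  have h1 := KaehlerDifferential.span_range_derivation A B
  have h2 : x ∈ Submodule.span B (Set.range (KaehlerDifferential.D A B)) := by rw [h1]; trivial
  rw [hD] at h2
  have h3 : Set.range (0 : Derivation A B (Ω[B⁄A])) ⊆ {0} := by
    rintro _ ⟨b, rfl⟩
    rfl
  have h4 := Submodule.span_mono (R := B) h3 h2
  simpa using h4

end K324.KummerUnr
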