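import Mathlib.FieldTheory.SeparableDegree
import Mathlib.RingTheory.AdjoinRoot
import Mathlib.FieldTheory.PrimitiveElement

set_option autoImplicit false
universe u
open Polynomial

/-!
# Adjoining a root
-/

namespace K324.RootExt

/-- Adjoining an `n`-th root. -/
theorem exists_ext (K : Type u) [Field K] (n : ℕ) (hn : (n : K) ≠ 0) (a : K) (ha : a ≠ 0) :
    ∃ (L : Type u) (_ : Field L) (_ : Algebra K L), FiniteDimensional K L ∧ Algebra.IsSeparable K L ∧
      ∃ α : L, α ^ n = algebraMap K L a ∧ IntermediateField.adjoin K {α} = ⊤ := by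
  have hn0 : n ≠ 0 := by
    rintro rfl
    exact hn Nat.cast_zero
  obtain ⟨q, hq, hqd⟩ := exists_irreducible_of_degree_pos (f := (X ^ n - C a : K[X])) (by
    rw [degree_X_pow_sub_C (Nat.pos_of_ne_zero hn0)]
    exact_mod_cast Nat.pos_of_ne_zero hn0)
  have : Fact (Irreducible q) := ⟨hq⟩
  have hroot : (AdjoinRoot.root q) ^ n = algebraMap K (AdjoinRoot q) a := by
    obtain ⟨r, hr⟩ := hqd
    have h1 := congrArg (aeval (AdjoinRoot.root q)) hr
    have h0 : aeval (AdjoinRoot.root q) q = 0 := by rw [AdjoinRoot.aeval_eq, AdjoinRoot.mk_self]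
    rw [map_mul, h0, zero_mul, map_sub, map_pow, aeval_X, aeval_C] at h1
    exact sub_eq_zero.1 h1
  have htop : IntermediateField.adjoin K {AdjoinRoot.root q} = ⊤ := by
    rw [eq_top_iff]
    intro x _
    have h1 : x ∈ Algebra.adjoin K {AdjoinRoot.root q} := by
      rw [AdjoinRoot.adjoinRoot_eq_top]
      trivial
    exact IntermediateField.algebra_adjoin_le_adjoin K _ h1
  have hfin : FiniteDimensional K (AdjoinRoot q) := (AdjoinRoot.powerBasis hq.ne_zero).finite
  have hsep : IsSeparable K (AdjoinRoot.root q) := by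
    have h1 : minpoly K (AdjoinRoot.root q) ∣ X ^ n - C a := by
      refine minpoly.dvd _ _ ?_
      rw [map_sub, map_pow, aeval_X, aeval_C, hroot, sub_self]
    exact (separable_X_pow_sub_C a hn ha).of_dvd h1
  refine ⟨AdjoinRoot q, inferInstance, inferInstance, hfin, ?_, AdjoinRoot.root q, hroot, htop⟩
  have h2 : Algebra.IsSeparable K (IntermediateField.adjoin K {AdjoinRoot.root q}) :=
    (IntermediateField.isSeparable_adjoin_simple_iff_isSeparable K _).2 hsep
  exact Algebra.IsSeparable.of_algHom K (IntermediateField.adjoin K {AdjoinRoot.root q})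
    (((IntermediateField.equivOfEq htop).trans IntermediateField.topEquiv).symm.toAlgHom)

/-- Multiplying the generator by a nonzero scalar. -/
theorem adjoin_mul {K L : Type*} [Field K] [Field L] [Algebra K L] (α : L) (h : IntermediateField.adjoin K {α} = ⊤)
    (c : K) (hc : c ≠ 0) : IntermediateField.adjoin K {α * algebraMap K L c} = ⊤ := by
  rw [eq_top_iff, ← h, IntermediateField.adjoin_simple_le_iff]
  have h1 : α * algebraMap K L c ∈ IntermediateField.adjoin K {α * algebraMap K L c} :=
    IntermediateField.mem_adjoin_simple_self K _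
  have h2 : α = (α * algebraMap K L c) * algebraMap K L c⁻¹ := by
    rw [mul_assoc, ← map_mul, mul_inv_cancel₀ hc, map_one, mul_one]
  have h3 : (α * algebraMap K L c) * algebraMap K L c⁻¹ ∈ IntermediateField.adjoin K {α * algebraMap K L c} :=
    mul_mem h1 (IntermediateField.algebraMap_mem _ _)
  rwa [← h2] at h3

end K324.RootExt
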