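import Groth.Agent.Curves.K324.KumSec
import Groth.Agent.Curves.K324.KummerUnr
import Groth.Agent.Ega2.Normal
import Groth.Agent.Curves.K324.RootExt
import Mathlib.AlgebraicGeometry.Morphisms.FormallyUnramified

/-!
# The root cover is unramified where the section generates
-/

set_option autoImplicit false
universe u

open CategoryTheory CategoryTheory.Limits AlgebraicGeometry TopologicalSpace Opposite
open Groth.Agent.Fdesc.LocGen

namespace K324.KumUnr

open NormExt KumSec

theorem unram_of_app {C C' : Scheme.{u}} (π : C' ⟶ C) [IsAffineHom π] {W : C.Opens} (hW : IsAffineOpen W)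
    (h : (π.app W).hom.FormallyUnramified) : FormallyUnramified ((π ⁻¹ᵁ W).ι ≫ π) := by
  have hW' : IsAffineOpen (π ⁻¹ᵁ W) := hW.preimage π
  have h1 : FormallyUnramified (Spec.map (π.app W)) :=
    (HasRingHomProperty.Spec_iff (P := @FormallyUnramified)).2 h
  have h2 : hW'.fromSpec ≫ π = Spec.map (π.app W) ≫ hW.fromSpec := by
    rw [← Scheme.Hom.appLE_eq_app, IsAffineOpen.SpecMap_appLE_fromSpec π hW hW']
  have h3 : (π ⁻¹ᵁ W).ι ≫ π = hW'.isoSpec.hom ≫ Spec.map (π.app W) ≫ hW.fromSpec := by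
    rw [← h2, ← Category.assoc, IsAffineOpen.isoSpec_hom_fromSpec]
  have h4 : FormallyUnramified hW'.isoSpec.hom := inferInstance
  have h5 : FormallyUnramified hW.fromSpec := inferInstance
  rw [h3]
  exact MorphismProperty.comp_mem _ _ _ h4 (MorphismProperty.comp_mem _ _ _ h1 h5)

variable {C : Scheme.{u}} [IsIntegral C] (L : Type u) [Field L] [Algebra C.functionField L] {E : C.Modules}

theorem unramified (hC : Pi1.IsNormalScheme C) [FiniteDimensional C.functionField L]
    [Algebra.IsSeparable C.functionField L] {C' : Scheme.{u}} [IsReduced C'] (π : C' ⟶ C) [IsIntegralHom π]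
    (p : Spec (CommRingCat.of L) ⟶ C') [IsDominant p] (hp : p ≫ π = gen L)
    {W : C.Opens} (hW : IsAffineOpen W) (hg : genericPoint C ∈ W) (b : Γ(C', π ⁻¹ᵁ W)) {n : ℕ}
    (hn : IsUnit (n : Γ(C, W))) {h : Γ(C, W)} (hh : IsUnit h)
    (hb : (ev p (π ⁻¹ᵁ W) (p_mem L π p hp hg) b) ^ n = val L W hg h)
    (htop : IntermediateField.adjoin C.functionField {ev p (π ⁻¹ᵁ W) (p_mem L π p hp hg) b} = ⊤) :
    FormallyUnramified ((π ⁻¹ᵁ W).ι ≫ π) := by
  apply unram_of_app π hW
  have : Nonempty W := ⟨⟨_, hg⟩⟩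
  have : IsIntegrallyClosed Γ(C, W) := Groth.Agent.Ega2.Normal.isIntegrallyClosed_of_isAffineOpen hC hW this
  have : IsFractionRing Γ(C, W) C.functionField := functionField_isFractionRing_of_isAffineOpen C W hW
  let _ : Algebra Γ(C, W) L := (val L W hg).toAlgebra
  have : IsScalarTower Γ(C, W) C.functionField L := IsScalarTower.of_algebraMap_eq (fun a => rfl)
  let _ : Algebra Γ(C, W) Γ(C', π ⁻¹ᵁ W) := (π.app W).hom.toAlgebra
  let _ : Algebra Γ(C', π ⁻¹ᵁ W) L := (ev p (π ⁻¹ᵁ W) (p_mem L π p hp hg)).toAlgebra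
  have : IsScalarTower Γ(C, W) Γ(C', π ⁻¹ᵁ W) L :=
    IsScalarTower.of_algebraMap_eq (fun a => (ev_app L π p hp hg a _).symm)
  have : Algebra.IsIntegral Γ(C, W) Γ(C', π ⁻¹ᵁ W) := ⟨fun a => π.isIntegral_app W hW a⟩
  have hinj : Function.Injective (algebraMap Γ(C', π ⁻¹ᵁ W) L) := ev_injective p _ _
  have hbn : b ^ n = algebraMap Γ(C, W) Γ(C', π ⁻¹ᵁ W) h := by
    apply hinj
    rw [map_pow, ← IsScalarTower.algebraMap_apply]
    exact hb
  exact KummerUnr.formallyUnramified (K := C.functionField) hinj b htop hn hh hbn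

/-- The root cover is unramified near the points over the generating locus of the section. -/
theorem unram_near (hC : Pi1.IsNormalScheme C) [FiniteDimensional C.functionField L]
    [Algebra.IsSeparable C.functionField L] {C' : Scheme.{u}} [IsReduced C'] (π : C' ⟶ C) [IsIntegralHom π]
    (p : Spec (CommRingCat.of L) ⟶ C') [IsDominant p] (hp : p ≫ π = gen L) {n : ℕ}
    (hn : ∀ W : C.Opens, IsUnit (n : Γ(C, W)))
    {s : Coh.structureModule C ⟶ CohB1.tensorPow E n}
    {V₀ : C.Opens} {e₀ : Γ(E, V₀)} {hV₀ : genericPoint C ∈ V₀} {α : L}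
    (hα : IntermediateField.adjoin C.functionField {α} = ⊤) {x : C}
    (l : Loc L π p hp n s e₀ hV₀ α x) (hx : x ∈ CohB1.genLocus (CohB1.tensorPow E n) s) :
    ∃ W : C.Opens, x ∈ W ∧ FormallyUnramified ((π ⁻¹ᵁ W).ι ≫ π) := by
  have h1 : x ∈ C.basicOpen l.h := by
    rw [← genLocus_inf_eq s (l.isGen.pow n) l.hs]
    exact ⟨hx, l.mem⟩
  have hle : C.basicOpen l.h ≤ l.V := C.basicOpen_le _
  have hg : genericPoint C ∈ C.basicOpen l.h := gp_mem h1
  refine ⟨C.basicOpen l.h, h1, ?_⟩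
  have hu : IsUnit (ores hle l.h) := C.toRingedSpace.isUnit_res_basicOpen l.h
  have hb : ev p (π ⁻¹ᵁ C.basicOpen l.h) (p_mem L π p hp hg) (ores (π.preimage_mono hle) l.b) =
      α * val L (l.V ⊓ V₀) (gp_inf (gp_mem l.mem) hV₀) l.u := by
    rw [ev_ores]
    exact l.hb
  refine unramified L hC π p hp (l.affine.basicOpen l.h) hg (ores (π.preimage_mono hle) l.b) (hn _) hu ?_ ?_
  · rw [hb, l.hn, val_ores]
  · rw [hb]
    refine RootExt.adjoin_mul α hα _ ?_
    have h5 : IsUnit (C.presheaf.germ (l.V ⊓ V₀) (genericPoint C) (gp_inf (gp_mem l.mem) hV₀) l.u) :=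
      l.isUnit_u.map (C.presheaf.germ (l.V ⊓ V₀) (genericPoint C) (gp_inf (gp_mem l.mem) hV₀)).hom
    exact h5.ne_zero

end K324.KumUnr
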