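import Groth.Agent.VBCurve.K707.Deg
import Groth.Agent.VarietyA.StalkCrit
import Groth.Agent.Fdesc.LocGen
import Groth.Agent.Fdesc.StructMod
import Groth.Agent.CurvesB.SepPoints
import Groth.Agent.Sga67.CohBasic
import Groth.Agent.PerfA.CohSerre
import Groth.Agent.Ega2.QCohLocal
import Groth.Agent.S1521
import Groth.Agent.Dcoh.FinLocFree
import Groth.Prelude.Def_FlatMod2

/-!
# Filtrations with invertible quotients of negative degree

For a coherent subsheaf `N` of a free module on a proper regular curve over an algebraically closed field, without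
nonzero global sections: a filtration with invertible quotients of strictly negative degree.
-/

set_option autoImplicit false
universe u
open CategoryTheory CategoryTheory.Limits AlgebraicGeometry Opposite TopologicalSpace

namespace K324.NegFilt

open Groth.Agent Groth.Agent.Fdesc Groth.Agent.CycB.StalkExact Groth.Agent.VarietyA.DegRank
open Groth.Agent.VarietyA.StalkCrit IsLocalRing

variable {X : Scheme.{u}}

/-- A jointly monic family. -/
def JMono {N M : X.Modules} {ι : Type} (f : ι → (N ⟶ M)) : Prop :=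
  ∀ (Z : X.Modules) (g : Z ⟶ N), (∀ i, g ≫ f i = 0) → g = 0

/-- The inclusion of the `i`-th summand. -/
noncomputable def inc (X : Scheme.{u}) {n : ℕ} (i : Fin n) : Coh.structureModule X ⟶ FlatMod.freeMod X n :=
  Sigma.ι (fun _ : Fin n => Coh.structureModule X) i

/-- The projection to the `i`-th summand. -/
noncomputable def pr (X : Scheme.{u}) {n : ℕ} (i : Fin n) : FlatMod.freeMod X n ⟶ Coh.structureModule X :=
  Sigma.desc fun j => if j = i then 𝟙 _ else 0

theorem inc_pr {n : ℕ} (i j : Fin n) : inc X j ≫ pr X i = if j = i then 𝟙 _ else 0 := by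
  rw [inc, pr, Sigma.ι_desc]

theorem sum_pr_inc (n : ℕ) : ∑ i : Fin n, pr X i ≫ inc X i = 𝟙 _ := by
  refine Sigma.hom_ext _ _ fun j => ?_
  change inc X j ≫ _ = inc X j ≫ _
  rw [Preadditive.comp_sum, Category.comp_id]
  simp only [← Category.assoc, inc_pr]
  rw [Finset.sum_eq_single j]
  · simp
  · intro i _ hij
    rw [if_neg (Ne.symm hij), zero_comp]
  · simp

/-- The morphism to the free module attached to a family. -/
noncomputable def toFree {N : X.Modules} {n : ℕ} (f : Fin n → (N ⟶ Coh.structureModule X)) :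
    N ⟶ FlatMod.freeMod X n := ∑ i, f i ≫ inc X i

theorem toFree_pr {N : X.Modules} {n : ℕ} (f : Fin n → (N ⟶ Coh.structureModule X)) (i : Fin n) :
    toFree f ≫ pr X i = f i := by
  rw [toFree, Preadditive.sum_comp]
  simp only [Category.assoc, inc_pr]
  rw [Finset.sum_eq_single i]
  · simp
  · intro j _ hij
    rw [if_neg hij, comp_zero]
  · simp

theorem jmono_of_mono {N : X.Modules} {n : ℕ} (ι : N ⟶ FlatMod.freeMod X n) [Mono ι] :
    JMono (fun i => ι ≫ pr X i) := by
  intro Z g hg
  rw [← cancel_mono ι, zero_comp, ← Category.comp_id ι, ← sum_pr_inc, Preadditive.comp_sum,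
    Preadditive.comp_sum]
  refine Finset.sum_eq_zero fun i _ => ?_
  have := hg i
  simp only [← Category.assoc] at this ⊢
  rw [this, zero_comp]

theorem JMono.mono {N : X.Modules} {n : ℕ} {f : Fin n → (N ⟶ Coh.structureModule X)} (hf : JMono f) :
    Mono (toFree f) := by
  refine Preadditive.mono_of_cancel_zero _ fun {Z} g hg => ?_
  exact hf Z g fun i => by rw [← toFree_pr f i, ← Category.assoc, hg, zero_comp]

theorem JMono.precomp {N N' : X.Modules} {n : ℕ} {f : Fin n → (N ⟶ Coh.structureModule X)} (hf : JMono f)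
    (j : N' ⟶ N) [Mono j] : JMono (fun i => j ≫ f i) := by
  intro Z g hg
  rw [← cancel_mono j, zero_comp]
  exact hf Z _ fun i => by rw [Category.assoc]; exact hg i

/-- Multiplication by a global function on the structure sheaf. -/
noncomputable def sc (a : Γ(X, ⊤)) : Coh.structureModule X ⟶ Coh.structureModule X :=
  LocGen.homOf (LocGen.ofFun a)

theorem sc_sc (a b : Γ(X, ⊤)) (h : a * b = 1) : sc a ≫ sc b = 𝟙 _ := by
  apply LocGen.hom_ext_sec
  rw [LocGen.sec_comp, sc, sc, LocGen.sec_homOf, LocGen.res_refl, LocGen.homOf_app, LocGen.res_refl]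
  change (a • b : Γ(X, ⊤)) = 1
  rw [smul_eq_mul, h]

theorem stalkLin_sc (a : Γ(X, ⊤)) (x : X) (t : (Coh.structureModule X).presheaf.stalk x) :
    stalkLin (sc a) x t = X.presheaf.germ ⊤ x trivial a • t := by
  obtain ⟨U, hx, s, rfl⟩ := TopCat.Presheaf.exists_germ_eq _ t
  rw [stalkLin_germ]
  obtain ⟨r, rfl⟩ := LocGen.ofFun.surjective s
  rw [sc, LocGen.homOf_app, germ_smul]
  have h1 : LocGen.res (Coh.structureModule X) (le_top : U ≤ ⊤) (LocGen.ofFun a) =
      LocGen.ofFun (LocGen.ores le_top a) := rfl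
  rw [h1, LocGen.ofFun_eq_smul, LocGen.ofFun_eq_smul, germ_smul, germ_smul, smul_comm]
  congr 1
  exact X.presheaf.germ_res_apply (homOfLE le_top) x hx a

/-- The map on stalks as an additive function of the morphism. -/
noncomputable def stalkAdd {N M : X.Modules} (x : X) (t : N.presheaf.stalk x) :
    (N ⟶ M) →+ M.presheaf.stalk x where
  toFun φ := stalkLin φ x t
  map_zero' := by
    rw [coe_stalkLin, Functor.map_zero]
    rfl
  map_add' φ ψ := by
    rw [coe_stalkLin, coe_stalkLin, coe_stalkLin, Functor.map_add]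
    rfl

theorem stalkLin_sum {N M : X.Modules} {n : ℕ} (f : Fin n → (N ⟶ M)) (x : X) (t : N.presheaf.stalk x) :
    stalkLin (∑ i, f i) x t = ∑ i, stalkLin (f i) x t :=
  map_sum (stalkAdd x t) f Finset.univ


/-- A linear combination of a family of morphisms to the structure sheaf. -/
noncomputable def comb {N : X.Modules} {n : ℕ} (f : Fin n → (N ⟶ Coh.structureModule X))
    (a : Fin n → Γ(X, ⊤)) : N ⟶ Coh.structureModule X := ∑ i, f i ≫ sc (a i)

/-- The value of a morphism to the structure sheaf on stalks. -/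
noncomputable def val {N : X.Modules} (f : N ⟶ Coh.structureModule X) (x : X) :
    N.presheaf.stalk x →ₗ[X.presheaf.stalk x] X.presheaf.stalk x :=
  (StructMod.stalkEquiv x).symm.toLinearMap ∘ₗ stalkLin f x

theorem val_comb {N : X.Modules} {n : ℕ} (f : Fin n → (N ⟶ Coh.structureModule X))
    (a : Fin n → Γ(X, ⊤)) (x : X) (t : N.presheaf.stalk x) :
    val (comb f a) x t = ∑ i, X.presheaf.germ ⊤ x trivial (a i) * val (f i) x t := by
  rw [val, LinearMap.comp_apply, comb, stalkLin_sum]
  simp only [stalkLin_comp, LinearMap.comp_apply, stalkLin_sc, map_sum]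
  refine Finset.sum_congr rfl fun i _ => ?_
  change (StructMod.stalkEquiv x).symm _ = _
  rw [map_smul, smul_eq_mul]
  rfl

/-- The family on stalks. -/
noncomputable def fam {N : X.Modules} {n : ℕ} (f : Fin n → (N ⟶ Coh.structureModule X)) (x : X) :
    N.presheaf.stalk x →ₗ[X.presheaf.stalk x] (Fin n → X.presheaf.stalk x) :=
  LinearMap.pi fun i => val (f i) x

/-- Linear algebra: a proper submodule of a free module over a local ring is killed by a nonzero functional with
coefficients in the residue field. -/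
theorem exists_functional {R : Type*} [CommRing R] [IsLocalRing R] {n : ℕ}
    (S : Submodule R (Fin n → R)) (hS : S ≠ ⊤) :
    ∃ c : Fin n → R, (∃ i, c i ∉ maximalIdeal R) ∧ ∀ s ∈ S, ∑ i, c i * s i ∈ maximalIdeal R := by
  classical
  let p : (Fin n → R) → (Fin n → ResidueField R) := fun v i => residue R (v i)
  let S' : Submodule (ResidueField R) (Fin n → ResidueField R) :=
    { carrier := p '' (S : Set (Fin n → R))
      add_mem' := by
        rintro _ _ ⟨a, ha, rfl⟩ ⟨b, hb, rfl⟩
        exact ⟨a + b, S.add_mem ha hb, by ext i; simp [p]⟩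
      zero_mem' := ⟨0, S.zero_mem, by ext i; simp [p]⟩
      smul_mem' := by
        rintro c _ ⟨a, ha, rfl⟩
        obtain ⟨r, rfl⟩ := residue_surjective c
        exact ⟨r • a, S.smul_mem r ha, by ext i; simp [p]⟩ }
  have hS' : S' ≠ ⊤ := by
    intro h
    apply hS
    rw [eq_top_iff]
    refine Submodule.le_of_le_smul_of_le_jacobson_bot (I := maximalIdeal R) (Module.Finite.fg_top)
      (maximalIdeal_le_jacobson _) ?_
    intro v _
    obtain ⟨s, hs, hsv⟩ : p v ∈ p '' (S : Set (Fin n → R)) := by
      have : p v ∈ S' := by rw [h]; trivial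
      exact this
    have h1 : ∀ i, (v - s) i ∈ maximalIdeal R := fun i => by
      rw [← residue_eq_zero_iff, Pi.sub_apply, map_sub, sub_eq_zero]
      exact (congrFun hsv i).symm
    have h2 : v - s ∈ maximalIdeal R • (⊤ : Submodule R (Fin n → R)) := by
      rw [pi_eq_sum_univ' (v - s)]
      exact Submodule.sum_mem _ fun i _ => Submodule.smul_mem_smul (h1 i) trivial
    rw [← sub_add_cancel v s]
    exact Submodule.add_mem_sup h2 hs |> fun h => by rwa [sup_comm] at h
  obtain ⟨φ, hφ0, hφ⟩ := Submodule.exists_le_ker_of_lt_top S' (lt_top_iff_ne_top.mpr hS')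
  choose c hc using fun i : Fin n => residue_surjective (φ (Pi.single i 1))
  have key : ∀ v : Fin n → R, residue R (∑ i, c i * v i) = φ (p v) := by
    intro v
    rw [map_sum]
    conv_rhs => rw [pi_eq_sum_univ' (p v), map_sum]
    refine Finset.sum_congr rfl fun i _ => ?_
    rw [map_smul, ← hc, map_mul, smul_eq_mul, mul_comm]
  refine ⟨c, ?_, fun s hs => ?_⟩
  · by_contra hcon
    push Not at hcon
    apply hφ0
    refine LinearMap.pi_ext fun i x => ?_
    have h3 : (Pi.single i x : Fin n → ResidueField R) = x • Pi.single i 1 := by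
      rw [← Pi.single_smul, smul_eq_mul, mul_one]
    rw [h3, map_smul, ← hc, (residue_eq_zero_iff _).mpr (hcon i)]
    simp
  · rw [← residue_eq_zero_iff, key]
    exact hφ ⟨s, hs, rfl⟩

section field

variable (k : Type u) [Field k] [IsAlgClosed k] [X.Over (Spec (CommRingCat.of k))]

/-- The global function attached to a constant. -/
noncomputable abbrev cst (a : k) : Γ(X, ⊤) := CurvesB.SepPoints.glb (X ↘ Spec (CommRingCat.of k)) a

variable {k}

theorem exists_comb [LocallyOfFiniteType (X ↘ Spec (CommRingCat.of k))] {N : X.Modules} {n : ℕ}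
    (f : Fin n → (N ⟶ Coh.structureModule X)) (x : X) (hx : IsClosed ({x} : Set X))
    (hf : ¬ Function.Surjective (fam f x)) :
    ∃ a : Fin n → k, (∃ i, a i ≠ 0) ∧ ∀ t, val (comb f fun i => cst k (a i)) x t ∈
      maximalIdeal (X.presheaf.stalk x) := by
  obtain ⟨c, ⟨i₀, hi₀⟩, hc⟩ := exists_functional (LinearMap.range (fam f x))
    (fun h => hf (LinearMap.range_eq_top.mp h))
  choose a ha using fun i => CurvesB.SepPoints.exists_const_sub_mem
    (X ↘ Spec (CommRingCat.of k)) x hx (c i)
  refine ⟨a, ⟨i₀, fun h => hi₀ ?_⟩, fun t => ?_⟩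
  · have := ha i₀
    rw [h] at this
    simpa using this
  · rw [val_comb]
    have h1 := hc _ ⟨t, rfl⟩
    have h2 : ∑ i, X.presheaf.germ ⊤ x trivial (cst k (a i)) * val (f i) x t =
        ∑ i, c i * fam f x t i - ∑ i, (c i - X.presheaf.germ ⊤ x trivial (cst k (a i))) * fam f x t i := by
      rw [← Finset.sum_sub_distrib]
      refine Finset.sum_congr rfl fun i _ => ?_
      change _ * fam f x t i = _
      ring
    rw [h2]
    exact Ideal.sub_mem _ h1 (Ideal.sum_mem _ fun i _ => Ideal.mul_mem_right _ _ (ha i))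

end field

theorem stalkLin_toFree_surjective {N : X.Modules} {n : ℕ} (f : Fin n → (N ⟶ Coh.structureModule X)) (x : X)
    (h : Function.Surjective (fam f x)) : Function.Surjective (stalkLin (toFree f) x) := by
  intro t
  obtain ⟨ν, hν⟩ := h fun i => (StructMod.stalkEquiv x).symm (stalkLin (pr X i) x t)
  refine ⟨ν, ?_⟩
  have h1 : t = stalkLin (∑ i : Fin n, pr X i ≫ inc X i) x t := by
    rw [sum_pr_inc, stalkLin_id]; rfl
  rw [h1, toFree, stalkLin_sum, stalkLin_sum]
  refine Finset.sum_congr rfl fun i _ => ?_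
  rw [stalkLin_comp, stalkLin_comp, LinearMap.comp_apply, LinearMap.comp_apply]
  congr 1
  exact (StructMod.stalkEquiv x).symm.injective (congrFun hν i)

theorem epi_of_closed [CompactSpace X] {N : X.Modules} {n : ℕ}
    (f : Fin n → (N ⟶ Coh.structureModule X)) (hN : Coh.IsCoh N)
    (h : ∀ x : X, IsClosed ({x} : Set X) → Function.Surjective (fam f x)) : Epi (toFree f) := by
  refine epi_of_stalks _ fun x => ?_
  have hQ : Coh.IsCoh (cokernel (toFree f)) := PerfA.CohSerre.isCoh_cokernel _ hN.1 (PerfA.CohSerre.isCoh_freeMod n)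
  rw [← subsingleton_cokernel_stalk_iff, ← not_mem_support_iff]
  intro hx
  have hcl := Ega3B.Devissage.isClosed_support hQ
  obtain ⟨y, hy, hyc⟩ := hcl.exists_closed_singleton ⟨x, hx⟩
  refine (not_mem_support_iff _ y).mpr ?_ hy
  rw [subsingleton_cokernel_stalk_iff]
  exact stalkLin_toFree_surjective f y (h y hyc)


section main

variable (k : Type u) [Field k] [IsAlgClosed k] [X.Over (Spec (CommRingCat.of k))] [IsIntegral X]
  [IsProper (X ↘ (Spec (CommRingCat.of k)))]

omit [IsAlgClosed k] [IsIntegral X] [IsProper (X ↘ (Spec (CommRingCat.of k)))] in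
theorem comb_eq_zero_absurd {N : X.Modules} {n : ℕ} (f : Fin n → (N ⟶ Coh.structureModule X))
    (hf : JMono f) (hmin : ∀ m < n, ¬ ∃ g : Fin m → (N ⟶ Coh.structureModule X), JMono g)
    (a : Fin n → k) (ha : ∃ i, a i ≠ 0) : comb f (fun i => cst k (a i)) ≠ 0 := by
  intro h0
  obtain ⟨i₀, hi₀⟩ := ha
  obtain _ | m := n
  · exact i₀.elim0
  refine hmin m (Nat.lt_succ_self m) ⟨fun j => f (i₀.succAbove j), ?_⟩
  intro Z g hg
  refine hf Z g fun i => ?_
  rcases eq_or_ne i i₀ with rfl | hi
  · have h1 : g ≫ comb f (fun i => cst k (a i)) = 0 := by rw [h0, comp_zero]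
    rw [comb, Preadditive.comp_sum, Fin.sum_univ_succAbove _ i] at h1
    have h2 : ∑ j : Fin m, g ≫ f (i.succAbove j) ≫ sc (cst k (a (i.succAbove j))) = 0 := by
      refine Finset.sum_eq_zero fun j _ => ?_
      rw [← Category.assoc, hg j, zero_comp]
    rw [h2, add_zero] at h1
    have h3 : sc (cst k (a i)) ≫ sc (cst k (a i)⁻¹) = 𝟙 (Coh.structureModule X) := by
      apply sc_sc
      rw [← map_mul, mul_inv_cancel₀ hi₀, map_one]
    rw [← Category.comp_id (f i), ← h3, ← Category.assoc (f i), ← Category.assoc g,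
      h1, zero_comp]
  · obtain ⟨j, rfl⟩ := Fin.exists_succAbove_eq hi
    exact hg j

omit [IsIntegral X] in
theorem isZero_of_rank_zero {M : X.Modules} (h : FlatMod.IsFinLocFreeOfRank 0 M) : IsZero M := by
  refine isZero_of_stalks M fun x => ?_
  obtain ⟨b⟩ := K707.Base.exists_basis h x
  exact b.equivFun.toEquiv.subsingleton

include k in
/-- A nonzero morphism to the structure sheaf which is not surjective at some closed point. -/
theorem exists_hom {N : X.Modules} (hN : Coh.IsCoh N) (hr : rk N ≠ 0)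
    (hemb : ∃ n, ∃ f : Fin n → (N ⟶ Coh.structureModule X), JMono f)
    (h0 : ∀ s : Coh.structureModule X ⟶ N, s = 0) :
    ∃ f : N ⟶ Coh.structureModule X, f ≠ 0 ∧ ¬ Epi f := by
  classical
  have := K707.Deg.isNoetherian k (X := X)
  obtain ⟨n, ⟨f, hf⟩, hmin⟩ : ∃ n, (∃ f : Fin n → (N ⟶ Coh.structureModule X), JMono f) ∧
      ∀ m < n, ¬ ∃ g : Fin m → (N ⟶ Coh.structureModule X), JMono g :=
    ⟨Nat.find hemb, Nat.find_spec hemb, fun m hm => Nat.find_min hemb hm⟩
  by_cases hall : ∀ x : X, IsClosed ({x} : Set X) → Function.Surjective (fam f x)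
  · exfalso
    have h1 := epi_of_closed f hN hall
    have h2 : Mono (toFree f) := hf.mono
    have h3 : IsIso (toFree f) := isIso_of_mono_of_epi _
    obtain hn0 | hn0 := Nat.eq_zero_or_pos n
    · apply hr
      have hz : IsZero N := by
        rw [IsZero.iff_id_eq_zero]
        refine hf N (𝟙 N) fun i => ?_
        exact (Fin.cast hn0 i).elim0
      rw [rk]
      have := stalk_of_isZero hz (genericPoint X)
      exact Module.finrank_zero_of_subsingleton
    · have h4 := h0 (inc X ⟨0, hn0⟩ ≫ inv (toFree f))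
      have h5 : inc X ⟨0, hn0⟩ = 0 := by
        rw [← Category.comp_id (inc X ⟨0, hn0⟩), ← IsIso.inv_hom_id (toFree f), ← Category.assoc, h4,
          zero_comp]
      have h6 := inc_pr (X := X) (⟨0, hn0⟩ : Fin n) ⟨0, hn0⟩
      rw [h5, zero_comp, if_pos rfl] at h6
      have h7 : LocGen.one (X := X) ⊤ = 0 := by
        have := congrArg (fun s => LocGen.sec s ⊤) h6
        exact this.symm
      exact one_ne_zero (α := Γ(X, ⊤)) h7
  · push Not at hall
    obtain ⟨x, hx, hns⟩ := hall
    obtain ⟨a, ha, hmem⟩ := exists_comb (k := k) f x hx hns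
    refine ⟨comb f fun i => cst k (a i), comb_eq_zero_absurd k f hf hmin a ha, fun hepi => ?_⟩
    obtain ⟨t, ht⟩ := stalkLin_surjective (comb f fun i => cst k (a i)) x (StructMod.stalkEquiv x 1)
    have h1 := hmem t
    rw [val, LinearMap.comp_apply, ht] at h1
    change (StructMod.stalkEquiv x).symm _ ∈ _ at h1
    rw [LinearEquiv.symm_apply_apply] at h1
    exact (Ideal.ne_top_iff_one _).mp (maximalIdeal.isMaximal _).ne_top h1

omit [IsAlgClosed k] [IsIntegral X] [IsProper (X ↘ (Spec (CommRingCat.of k)))] in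
theorem deg_congr {M N : X.Modules} (e : M ≅ N) (n : ℕ) : Curv2.deg k X M n = Curv2.deg k X N n := by
  rw [Curv2.deg, Curv2.deg, euler_iso k e]

omit [IsIntegral X] in
theorem isInvertible_of_iso {L L' : X.Modules} (e : L ≅ L') (h : PicF.IsInvertible L) :
    PicF.IsInvertible L' := fun x => by
  obtain ⟨U, hx, ⟨e'⟩⟩ := h x
  exact ⟨U, hx, ⟨(Scheme.Modules.restrictFunctor U.ι).mapIso e.symm ≪≫ e'⟩⟩

theorem filtration (hdim : topologicalKrullDim X = 1)
    (hpid : ∀ x : X, IsPrincipalIdealRing (X.presheaf.stalk x)) (r : ℕ) :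
    ∀ N : X.Modules, Coh.IsCoh N → rk N = r →
      (∃ n, ∃ f : Fin n → (N ⟶ Coh.structureModule X), JMono f) →
      (∀ s : Coh.structureModule X ⟶ N, s = 0) →
      ∃ (M : ℕ → X.Modules) (f : ∀ j : ℕ, (M (j + 1) ⟶ M j)),
        Nonempty (M 0 ≅ N) ∧ IsZero (M r) ∧
          ∀ j < r, Mono (f j) ∧ PicF.IsInvertible (cokernel (f j)) ∧
            Curv2.deg k X (cokernel (f j)) 1 < 0 := by
  have hNoeth := K707.Deg.isNoetherian k (X := X)
  have hO : PicF.IsInvertible (Coh.structureModule X) := Fdesc.LocGen.isInvertible_structureModule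
  have hOlf : FlatMod.IsFinLocFree (Coh.structureModule X) :=
    K707.Base.isFinLocFree_of_rank (Ega2.QCohLocal.isFinLocFreeOfRank_one_iff.mpr hO)
  have hOc : Coh.IsCoh (Coh.structureModule X) := PerfA.CohSerre.isCoh_of_isFinLocFree hOlf
  have hrO : rk (Coh.structureModule X) = 1 :=
    K707.Base.rk_of_rank (Ega2.QCohLocal.isFinLocFreeOfRank_one_iff.mpr hO)
  induction r with
  | zero =>
    intro N hN hr hemb h0
    refine ⟨fun _ => N, fun _ => 0, ⟨Iso.refl _⟩, ?_, fun j hj => absurd hj (Nat.not_lt_zero j)⟩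
    obtain ⟨n, f, hf⟩ := hemb
    have := hf.mono
    have h1 := K707.Base.isFinLocFreeOfRank_of_mono hpid (toFree f) hN (Dcoh.FinLocFree.isFinLocFree_freeMod X n)
    rw [hr] at h1
    exact isZero_of_rank_zero h1
  | succ r ih =>
    intro N hN hr hemb h0
    obtain ⟨f, hf0, hfe⟩ := exists_hom k hN (by omega) hemb h0
    let e := factorThruImage f
    let m := image.ι f
    have hem : e ≫ m = f := image.fac f
    have hI : Coh.IsCoh (image f) := by
      have : Coh.IsQCoh (image f) := by
        have h1 := Sga67.CohBasic.isQCoh_image f hN.1 hOc.1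
        exact Sga67.CohBasic.isQCoh_of_iso (Abelian.imageIsoImage f) h1
      exact PerfA.CohSerre.isCoh_of_mono m this hOc
    have hI0 : rk (image f) ≠ 0 := by
      intro h0
      have h1 := K707.Base.isFinLocFreeOfRank_of_mono hpid m hI hOlf
      rw [h0] at h1
      have h2 := isZero_of_rank_zero h1
      exact hf0 (by rw [← hem, h2.eq_of_tgt e 0, zero_comp])
    have hI1 : rk (image f) = 1 := by
      have h1 := rk_add _ (shortExact_cokernel m) hOc
      simp only at h1
      omega
    have hIinv : PicF.IsInvertible (image f) := by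
      have h1 := K707.Base.isFinLocFreeOfRank_of_mono hpid m hI hOlf
      rw [hI1] at h1
      exact Ega2.QCohLocal.isFinLocFreeOfRank_one_iff.mp h1
    have hdeg : Curv2.deg k X (image f) 1 < 0 := by
      have h1 := S1521.result k X hdim _ _ hIinv hO m (by
        intro h; apply hf0; rw [← hem, h, comp_zero])
      rw [show Curv2.deg k X (Coh.structureModule X) 1 = 0 by rw [Curv2.deg]; push_cast; ring] at h1
      refine lt_of_le_of_ne h1.1 fun h => hfe ?_
      have := h1.2 h
      rw [← hem]
      exact epi_comp _ _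
    have hK : Coh.IsCoh (kernel e) := PerfA.CohSerre.isCoh_kernel e hN hI.1
    have hKr : rk (kernel e) = r := by
      have h1 := rk_add _ (shortExact_kernel e) hN
      simp only at h1
      omega
    obtain ⟨M, g, ⟨i₀⟩, hz, hg⟩ := ih (kernel e) hK hKr (by
      obtain ⟨n, F, hF⟩ := hemb
      exact ⟨n, _, hF.precomp (kernel.ι e)⟩) (by
      intro s
      rw [← cancel_mono (kernel.ι e), zero_comp]
      exact h0 _)
    let M' : ℕ → X.Modules := fun j => Nat.casesOn j N M
    let g' : ∀ j : ℕ, M' (j + 1) ⟶ M' j := fun j =>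
      match j with
      | 0 => i₀.hom ≫ kernel.ι e
      | j + 1 => g j
    refine ⟨M', g', ⟨Iso.refl _⟩, hz, ?_⟩
    rintro (_ | j) hj
    · have hmono : Mono (i₀.hom ≫ kernel.ι e) := inferInstance
      have hS := shortExact_kernel e
      let c : cokernel (i₀.hom ≫ kernel.ι e) ≅ image f :=
        (cokernelEpiComp i₀.hom (kernel.ι e)) ≪≫
          (cokernelIsCokernel (kernel.ι e)).coconePointUniqueUpToIso hS.gIsCokernel
      change Mono (i₀.hom ≫ kernel.ι e) ∧ PicF.IsInvertible (cokernel (i₀.hom ≫ kernel.ι e)) ∧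
        Curv2.deg k X (cokernel (i₀.hom ≫ kernel.ι e)) 1 < 0
      exact ⟨hmono, isInvertible_of_iso c.symm hIinv, by rw [deg_congr k c]; exact hdeg⟩
    · exact hg j (by omega)

end main

end K324.NegFilt
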