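import Groth.Agent.CurvesB.NodeSch

/-!
# The local ring of a node, its branches and its derivations

`IsBranch K A φ ψ`: the local ring `A` is, via `(φ, ψ) : A → K⟦X⟧ × K⟦X⟧`, dense in the completed node, "faithfully
flatly".  Consequences for the integral closure of `A` (elements `a / s`, `s` a nonzerodivisor) and for derivations:

* `mul_max`: the maximal ideal of `A` is an ideal of the integral closure;
* `der_max`: derivations over `K` preserve the maximal ideal;
* `mem_of_pow`: an integral element with a power in the maximal ideal lies in the maximal ideal;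
* `exists_split`: the integral closure is `K + K u + 𝔪` with `u ^ 2 - u ∈ 𝔪`;
* `der_quot`: `D (a / s)` multiplies the maximal ideal into itself.
-/

set_option autoImplicit false
universe u
open IsLocalRing PowerSeries

namespace K324.NodeAlg

/-- `a / s` is integral over `A`. -/
def IntPair {A : Type*} [CommRing A] (a s : A) : Prop :=
  ∃ p : Polynomial A, p.Monic ∧ (p.scaleRoots s).eval a = 0

theorem IntPair.map {A B : Type*} [CommRing A] [CommRing B] (f : A →+* B) {a s : A} (h : IntPair a s) :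
    IntPair (f a) (f s) := by
  obtain ⟨p, hp, h0⟩ := h
  refine ⟨p.map f, hp.map f, ?_⟩
  by_cases hB : Nontrivial B
  · rw [← Polynomial.map_scaleRoots _ _ _ (by rw [hp.leadingCoeff, map_one]; exact one_ne_zero),
      Polynomial.eval_map, Polynomial.eval₂_hom, h0, map_zero]
  · rw [not_nontrivial_iff_subsingleton] at hB
    exact Subsingleton.elim _ _

theorem IntPair.of_quadratic {A : Type*} [CommRing A] {u s c : A} (h : u ^ 2 + s ^ 2 * c = s * u) : IntPair u s := by
  rcases subsingleton_or_nontrivial A with h0 | h0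
  · exact ⟨1, Polynomial.monic_one, Subsingleton.elim _ _⟩
  have hdeg : (Polynomial.X ^ 2 - Polynomial.X + Polynomial.C c : Polynomial A).natDegree = 2 := by
    compute_degree!
  refine ⟨Polynomial.X ^ 2 - Polynomial.X + Polynomial.C c, ?_, ?_⟩
  · monicity!
  · rw [Polynomial.eval_eq_sum_range, Polynomial.natDegree_scaleRoots, hdeg, Finset.sum_range_succ,
      Finset.sum_range_succ, Finset.sum_range_succ, Finset.sum_range_zero, Polynomial.coeff_scaleRoots,
      Polynomial.coeff_scaleRoots, Polynomial.coeff_scaleRoots, hdeg]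
    simp [Polynomial.coeff_X, Polynomial.coeff_C]
    linear_combination h

/-- If `s b = a` in an overring with `b` integral, then `a / s` is integral. -/
theorem IntPair.of_isIntegral {A B : Type*} [CommRing A] [CommRing B] (f : A →+* B)
    (hf : Function.Injective f) {a s : A} {b : B} (hb : f.IsIntegralElem b) (h : f s * b = f a) :
    IntPair a s := by
  obtain ⟨p, hp, h0⟩ := hb
  refine ⟨p, hp, hf ?_⟩
  rw [← Polynomial.eval₂_hom, map_zero, ← h, Polynomial.scaleRoots_eval₂_mul, h0, mul_zero]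

/-- In an integrally closed domain, integral fractions are elements. -/
theorem IntPair.exists_of_isIntegrallyClosed {R : Type*} [CommRing R] [IsDomain R] [IsIntegrallyClosed R]
    {a s : R} (hs : s ≠ 0) (h : IntPair a s) : ∃ b, a = s * b := by
  obtain ⟨p, hp, h0⟩ := h
  let F := FractionRing R
  have hs' : algebraMap R F s ≠ 0 := by
    rwa [Ne, IsFractionRing.to_map_eq_zero_iff]
  have h1 : algebraMap R F s ^ p.natDegree *
      Polynomial.eval₂ (algebraMap R F) (algebraMap R F a / algebraMap R F s) p = 0 := by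
    rw [← Polynomial.scaleRoots_eval₂_mul, mul_div_cancel₀ _ hs', Polynomial.eval₂_hom, h0, map_zero]
  have h2 : IsIntegral R (algebraMap R F a / algebraMap R F s) := by
    refine ⟨p, hp, ?_⟩
    exact (mul_eq_zero.1 h1).resolve_left (pow_ne_zero _ hs')
  obtain ⟨b, hb⟩ := IsIntegrallyClosed.isIntegral_iff.1 h2
  refine ⟨b, ?_⟩
  apply IsFractionRing.injective R F
  rw [map_mul, hb, mul_div_cancel₀ _ hs']

variable {K A : Type u} [Field K] [CommRing A] [IsLocalRing A] [Algebra K A]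

/-- `A` is dense in the completed node. -/
structure IsBranch (K : Type u) {A : Type u} [Field K] [CommRing A] [IsLocalRing A] [Algebra K A]
    (φ ψ : A →+* K⟦X⟧) : Prop where
  φC : ∀ c, φ (algebraMap K A c) = C c
  ψC : ∀ c, ψ (algebraMap K A c) = C c
  const : ∀ a, constantCoeff (φ a) = constantCoeff (ψ a)
  mem_iff : ∀ a, a ∈ maximalIdeal A ↔ constantCoeff (φ a) = 0
  inj : ∀ a, φ a = 0 → ψ a = 0 → a = 0
  ne_zero : ∀ s ∈ nonZeroDivisors A, φ s ≠ 0 ∧ ψ s ≠ 0
  div : ∀ s ∈ nonZeroDivisors A, ∀ (a : A) (β γ : K⟦X⟧), constantCoeff β = constantCoeff γ →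
    φ a = φ s * β → ψ a = ψ s * γ → ∃ c, a = s * c ∧ φ c = β ∧ ψ c = γ
  approx : ∀ (N : ℕ) (β γ : K⟦X⟧), constantCoeff β = constantCoeff γ →
    ∃ a, (X ^ N : K⟦X⟧) ∣ φ a - β ∧ (X ^ N : K⟦X⟧) ∣ ψ a - γ
  pow_mem : ∀ (j : ℕ) (a : A), (X ^ (j + 1) : K⟦X⟧) ∣ φ a → (X ^ (j + 1) : K⟦X⟧) ∣ ψ a →
    a ∈ maximalIdeal A ^ (j + 1)

open Groth.Agent.CurvesB.NodeRing Groth.Agent.CurvesB.NodeSch in
/-- The local ring of an ordinary double point. -/
theorem exists_isBranch [IsNoetherianRing A] (h : Curv2.IsOrdDoublePt K A) :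
    ∃ φ ψ : A →+* K⟦X⟧, IsBranch K φ ψ := by
  obtain ⟨φ, ψ, hN, hφ, hψ⟩ := exists_isNodeRing h
  let Â := AdicCompletion (maximalIdeal A) A
  have hff : Module.FaithfullyFlat A Â := Module.FaithfullyFlat.of_flat_of_isLocalHom
  have hne : ∀ s ∈ nonZeroDivisors A, φ (algebraMap A Â s) ≠ 0 ∧ ψ (algebraMap A Â s) ≠ 0 := by
    intro s hs
    have hsB : algebraMap A Â s ∈ nonZeroDivisors Â := by
      rw [mem_nonZeroDivisors_iff_left]
      intro x hx
      have h1 : IsSMulRegular Â s := Module.Flat.isSMulRegular_of_nonZeroDivisors hs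
      exact h1.right_eq_zero_of_smul (by rw [Algebra.smul_def]; exact hx)
    exact ⟨hN.ne_zero_left hsB, hN.symm.ne_zero_left hsB⟩
  have hmax : maximalIdeal Â = (maximalIdeal A).map (algebraMap A Â) := AdicCompletion.maximalIdeal_eq_map
  refine ⟨φ.comp (algebraMap A Â), ψ.comp (algebraMap A Â), hφ, hψ, fun a => hN.const _, fun a => ?_,
    fun a h1 h2 => ?_, hne, ?_, ?_, ?_⟩
  · rw [RingHom.comp_apply, ← hN.mem_maximalIdeal_iff, mem_maximalIdeal, mem_maximalIdeal, mem_nonunits_iff,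
      mem_nonunits_iff, isUnit_map_iff]
  · apply FaithfulSMul.algebraMap_injective A Â
    rw [map_zero]
    exact hN.inj _ h1 h2
  · intro s hs a β γ hβγ h1 h2
    obtain ⟨c, hc1, hc2⟩ := hN.range β γ hβγ
    have h3 : algebraMap A Â a = algebraMap A Â s * c := by
      apply hN.ext
      · rw [map_mul, hc1]; exact h1
      · rw [map_mul, hc2]; exact h2
    have h4 : a ∈ Ideal.span {s} := by
      rw [← Ideal.comap_map_eq_self_of_faithfullyFlat (B := Â) (Ideal.span {s}), Ideal.mem_comap, h3,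
        Ideal.map_span, Set.image_singleton]
      exact Ideal.mul_mem_right _ _ (Ideal.mem_span_singleton_self _)
    obtain ⟨d, hd⟩ := Ideal.mem_span_singleton.1 h4
    refine ⟨d, hd, ?_, ?_⟩
    · apply mul_left_cancel₀ (hne s hs).1
      refine Eq.trans ?_ h1
      rw [hd, map_mul]
      rfl
    · apply mul_left_cancel₀ (hne s hs).2
      refine Eq.trans ?_ h2
      rw [hd, map_mul]
      rfl
  · intro N β γ hβγ
    obtain ⟨c, hc1, hc2⟩ := hN.range β γ hβγ
    obtain ⟨a, ha⟩ := Submodule.mkQ_surjective _ (AdicCompletion.eval (maximalIdeal A) A N c)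
    have h1 : algebraMap A Â a - c ∈ ((maximalIdeal A) ^ N).map (algebraMap A Â) := by
      rw [← Submodule.restrictScalars_mem A, ← Ideal.smul_top_eq_map,
        AdicCompletion.pow_smul_top_eq_ker_eval (maximalIdeal A).fg_of_isNoetherianRing, LinearMap.mem_ker,
        map_sub, sub_eq_zero]
      exact ha
    have h2 : ∀ (χ : Â →+* K⟦X⟧), (∀ x ∈ maximalIdeal Â, constantCoeff (χ x) = 0) →
        ∀ z ∈ ((maximalIdeal A) ^ N).map (algebraMap A Â), (X ^ N : K⟦X⟧) ∣ χ z := by
      intro χ hχ z hz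
      rw [Ideal.map_pow, ← hmax] at hz
      have h3 : (maximalIdeal Â ^ N).map χ ≤ Ideal.span {(X ^ N : K⟦X⟧)} := by
        rw [Ideal.map_pow, ← Ideal.span_singleton_pow]
        refine Ideal.pow_right_mono (Ideal.map_le_iff_le_comap.2 fun x hx => ?_) N
        rw [Ideal.mem_comap, Ideal.mem_span_singleton, X_dvd_iff]
        exact hχ x hx
      exact Ideal.mem_span_singleton.1 (h3 (Ideal.mem_map_of_mem χ hz))
    refine ⟨a, ?_, ?_⟩
    · rw [← hc1, RingHom.comp_apply, ← map_sub]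
      exact h2 φ (fun x hx => (hN.mem_maximalIdeal_iff x).1 hx) _ h1
    · rw [← hc2, RingHom.comp_apply, ← map_sub]
      exact h2 ψ (fun x hx => (hN.symm.mem_maximalIdeal_iff x).1 hx) _ h1
  · intro j a ⟨β, hβ⟩ ⟨γ, hγ⟩
    rw [← Ideal.comap_map_eq_self_of_faithfullyFlat (B := Â) (maximalIdeal A ^ (j + 1)), Ideal.mem_comap,
      Ideal.map_pow, ← hmax]
    obtain ⟨p, hp1, hp2⟩ := hN.range X 0 (by simp)
    obtain ⟨q, hq1, hq2⟩ := hN.range 0 X (by simp)
    obtain ⟨b, hb1, hb2⟩ := hN.range β (C (constantCoeff β)) (by simp)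
    obtain ⟨c, hc1, hc2⟩ := hN.range (C (constantCoeff γ)) γ (by simp)
    have hpm : p ∈ maximalIdeal Â := (hN.mem_maximalIdeal_iff p).2 (by rw [hp1]; simp)
    have hqm : q ∈ maximalIdeal Â := (hN.mem_maximalIdeal_iff q).2 (by rw [hq1]; simp)
    have h1 : algebraMap A Â a = p ^ (j + 1) * b + q ^ (j + 1) * c := by
      apply hN.ext
      · rw [map_add, map_mul, map_mul, map_pow, map_pow, hp1, hq1, hb1, zero_pow (by omega), zero_mul,
          add_zero]
        exact hβ
      · rw [map_add, map_mul, map_mul, map_pow, map_pow, hp2, hq2, hc2, zero_pow (by omega), zero_mul,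
          zero_add]
        exact hγ
    rw [h1]
    exact Ideal.add_mem _ (Ideal.mul_mem_right _ _ (Ideal.pow_mem_pow hpm _))
      (Ideal.mul_mem_right _ _ (Ideal.pow_mem_pow hqm _))

namespace IsBranch

variable {φ ψ : A →+* K⟦X⟧} (h : IsBranch K φ ψ)

include h

theorem mem_iff' (a : A) : a ∈ maximalIdeal A ↔ constantCoeff (ψ a) = 0 := by
  rw [h.mem_iff, h.const]

theorem mem_nonZeroDivisors {s : A} (h1 : φ s ≠ 0) (h2 : ψ s ≠ 0) : s ∈ nonZeroDivisors A := by
  rw [mem_nonZeroDivisors_iff_right]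
  intro x hx
  refine h.inj x ?_ ?_
  · have := congrArg φ hx
    rw [map_mul, map_zero] at this
    exact (mul_eq_zero.1 this).resolve_right h1
  · have := congrArg ψ hx
    rw [map_mul, map_zero] at this
    exact (mul_eq_zero.1 this).resolve_right h2

theorem exists_vals {a s : A} (hs : s ∈ nonZeroDivisors A) (hi : IntPair a s) :
    ∃ β γ : K⟦X⟧, φ a = φ s * β ∧ ψ a = ψ s * γ := by
  obtain ⟨h1, h2⟩ := h.ne_zero s hs
  obtain ⟨β, hβ⟩ := (hi.map φ).exists_of_isIntegrallyClosed h1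
  obtain ⟨γ, hγ⟩ := (hi.map ψ).exists_of_isIntegrallyClosed h2
  exact ⟨β, γ, hβ, hγ⟩

/-- The maximal ideal is an ideal of the integral closure. -/
theorem mul_max {a s m : A} (hs : s ∈ nonZeroDivisors A) (hi : IntPair a s) (hm : m ∈ maximalIdeal A) :
    ∃ n ∈ maximalIdeal A, m * a = s * n := by
  obtain ⟨β, γ, hβ, hγ⟩ := h.exists_vals hs hi
  have h1 : constantCoeff (φ m * β) = 0 := by rw [map_mul, (h.mem_iff m).1 hm, zero_mul]
  have h2 : constantCoeff (ψ m * γ) = 0 := by rw [map_mul, (h.mem_iff' m).1 hm, zero_mul]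
  obtain ⟨c, hc, hc1, -⟩ := h.div s hs (m * a) (φ m * β) (ψ m * γ) (by rw [h1, h2])
    (by rw [map_mul, hβ]; ring) (by rw [map_mul, hγ]; ring)
  exact ⟨c, (h.mem_iff c).2 (by rw [hc1, h1]), hc⟩

/-- An integral element with a power in the maximal ideal lies in the maximal ideal. -/
theorem mem_of_pow {a s m : A} (hs : s ∈ nonZeroDivisors A) (hi : IntPair a s) (hm : m ∈ maximalIdeal A)
    {n : ℕ} (hn : a ^ n = s ^ n * m) : ∃ c ∈ maximalIdeal A, a = s * c := by
  obtain ⟨β, γ, hβ, hγ⟩ := h.exists_vals hs hi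
  obtain ⟨h1, h2⟩ := h.ne_zero s hs
  have e1 : β ^ n = φ m := by
    have := congrArg φ hn
    rw [map_pow, map_mul, map_pow, hβ, mul_pow] at this
    exact mul_left_cancel₀ (pow_ne_zero _ h1) this
  have e2 : γ ^ n = ψ m := by
    have := congrArg ψ hn
    rw [map_pow, map_mul, map_pow, hγ, mul_pow] at this
    exact mul_left_cancel₀ (pow_ne_zero _ h2) this
  have e3 : constantCoeff β = 0 := by
    have := congrArg constantCoeff e1
    rw [map_pow, (h.mem_iff m).1 hm] at this
    exact eq_zero_of_pow_eq_zero this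
  have e4 : constantCoeff γ = 0 := by
    have := congrArg constantCoeff e2
    rw [map_pow, (h.mem_iff' m).1 hm] at this
    exact eq_zero_of_pow_eq_zero this
  obtain ⟨c, hc, hc1, -⟩ := h.div s hs a β γ (by rw [e3, e4]) hβ hγ
  exact ⟨c, (h.mem_iff c).2 (by rw [hc1, e3]), hc⟩

/-- Elements of powers of the maximal ideal. -/
theorem dvd_of_mem_pow (j : ℕ) {a : A} (ha : a ∈ maximalIdeal A ^ j) :
    (X ^ j : K⟦X⟧) ∣ φ a ∧ (X ^ j : K⟦X⟧) ∣ ψ a := by
  have h2 : ∀ (χ : A →+* K⟦X⟧), (∀ x ∈ maximalIdeal A, constantCoeff (χ x) = 0) →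
      (X ^ j : K⟦X⟧) ∣ χ a := by
    intro χ hχ
    have h3 : (maximalIdeal A ^ j).map χ ≤ Ideal.span {(X ^ j : K⟦X⟧)} := by
      rw [Ideal.map_pow, ← Ideal.span_singleton_pow]
      refine Ideal.pow_right_mono (Ideal.map_le_iff_le_comap.2 fun x hx => ?_) j
      rw [Ideal.mem_comap, Ideal.mem_span_singleton, X_dvd_iff]
      exact hχ x hx
    exact Ideal.mem_span_singleton.1 (h3 (Ideal.mem_map_of_mem χ ha))
  exact ⟨h2 φ fun x hx => (h.mem_iff x).1 hx, h2 ψ fun x hx => (h.mem_iff' x).1 hx⟩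

/-- Approximate coordinates. -/
theorem exists_coord : ∃ a : A, (∃ e, φ a = X + X ^ 4 * e) ∧ ∃ f, ψ a = X ^ 4 * f := by
  obtain ⟨a, ⟨e, he⟩, ⟨f, hf⟩⟩ := h.approx 4 X 0 (by simp)
  exact ⟨a, ⟨e, by rw [← he]; ring⟩, ⟨f, by rw [← hf, sub_zero]⟩⟩

omit h in
theorem symm (h : IsBranch K φ ψ) : IsBranch K ψ φ where
  φC := h.ψC
  ψC := h.φC
  const a := (h.const a).symm
  mem_iff := h.mem_iff'
  inj a h1 h2 := h.inj a h2 h1
  ne_zero s hs := ⟨(h.ne_zero s hs).2, (h.ne_zero s hs).1⟩
  div s hs a β γ e h1 h2 := by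
    obtain ⟨c, hc, hc1, hc2⟩ := h.div s hs a γ β e.symm h2 h1
    exact ⟨c, hc, hc2, hc1⟩
  approx N β γ e := by
    obtain ⟨a, h1, h2⟩ := h.approx N γ β e.symm
    exact ⟨a, h2, h1⟩
  pow_mem j a h1 h2 := h.pow_mem j a h2 h1

omit h [Algebra K A] in
theorem der_pow (D : A →+ A) (hD : ∀ a b, D (a * b) = a * D b + b * D a) (j : ℕ) :
    ∀ a ∈ maximalIdeal A ^ (j + 1), D a ∈ maximalIdeal A ^ j := by
  induction j with
  | zero => intro a _; rw [pow_zero, Ideal.one_eq_top]; trivial
  | succ j ih =>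
    intro a ha
    rw [pow_succ] at ha
    refine Submodule.mul_induction_on ha (fun x hx y hy => ?_) (fun x y hx hy => ?_)
    · rw [hD]
      refine Ideal.add_mem _ (Ideal.mul_mem_right _ _ hx) ?_
      rw [pow_succ']
      exact Ideal.mul_mem_mul hy (ih x hx)
    · rw [map_add]
      exact Ideal.add_mem _ hx hy

omit h in
theorem der_coord_aux (h : IsBranch K φ ψ) (D : A →+ A) (hD : ∀ a b, D (a * b) = a * D b + b * D a)
    {a a' : A} {e f e' f' : K⟦X⟧}
    (he : φ a = X + X ^ 4 * e) (hf : ψ a = X ^ 4 * f) (he' : φ a' = X ^ 4 * e') (hf' : ψ a' = X + X ^ 4 * f') :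
    D a' ∈ maximalIdeal A := by
  have h1 : a * a' ∈ maximalIdeal A ^ (2 + 1) := by
    apply h.pow_mem
    · rw [map_mul, he, he']
      exact ⟨(X + X ^ 4 * e) * X * e', by ring⟩
    · rw [map_mul, hf, hf']
      exact ⟨X * f * (X + X ^ 4 * f'), by ring⟩
  obtain ⟨z, hz⟩ := (h.dvd_of_mem_pow 2 (der_pow D hD 2 _ h1)).1
  rw [hD, map_add, map_mul, map_mul, he, he'] at hz
  have h2 : X * ((1 + X ^ 3 * e) * φ (D a')) = X * (X * (z - X ^ 2 * e' * φ (D a))) := by
    linear_combination hz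
  have h3 := mul_left_cancel₀ X_ne_zero h2
  rw [h.mem_iff]
  have h4 := congrArg constantCoeff h3
  simpa using h4

/-- Derivations preserve the maximal ideal. -/
theorem der_max (D : A →+ A) (hD : ∀ a b, D (a * b) = a * D b + b * D a)
    (hK : ∀ c : K, D (algebraMap K A c) = 0) {m : A} (hm : m ∈ maximalIdeal A) : D m ∈ maximalIdeal A := by
  obtain ⟨a, ⟨e, he⟩, ⟨f, hf⟩⟩ := h.exists_coord
  obtain ⟨a', ⟨f', hf'⟩, ⟨e', he'⟩⟩ := h.symm.exists_coord
  have h1 : D a' ∈ maximalIdeal A := der_coord_aux h D hD he hf he' hf'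
  have h2 : D a ∈ maximalIdeal A := der_coord_aux h.symm D hD hf' he' hf he
  obtain ⟨β, hβ⟩ := X_dvd_iff.2 ((h.mem_iff m).1 hm)
  obtain ⟨γ, hγ⟩ := X_dvd_iff.2 ((h.mem_iff' m).1 hm)
  obtain ⟨β', hβ'⟩ : X ∣ β - C (constantCoeff β) := X_dvd_iff.2 (by simp)
  obtain ⟨γ', hγ'⟩ : X ∣ γ - C (constantCoeff γ) := X_dvd_iff.2 (by simp)
  have h3 : m - algebraMap K A (constantCoeff β) * a - algebraMap K A (constantCoeff γ) * a' ∈
      maximalIdeal A ^ (1 + 1) := by
    apply h.pow_mem
    · rw [map_sub, map_sub, map_mul, map_mul, h.φC, h.φC, hβ, he, he']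
      refine ⟨β' - C (constantCoeff β) * X ^ 2 * e - C (constantCoeff γ) * X ^ 2 * e', ?_⟩
      linear_combination X * hβ'
    · rw [map_sub, map_sub, map_mul, map_mul, h.ψC, h.ψC, hγ, hf, hf']
      refine ⟨γ' - C (constantCoeff β) * X ^ 2 * f - C (constantCoeff γ) * X ^ 2 * f', ?_⟩
      linear_combination X * hγ'
  have h4 := der_pow D hD 1 _ h3
  rw [map_sub, map_sub, hD, hD, hK, hK, mul_zero, mul_zero, add_zero, add_zero, pow_one] at h4
  have h5 : D m = (D m - algebraMap K A (constantCoeff β) * D a - algebraMap K A (constantCoeff γ) * D a') +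
      (algebraMap K A (constantCoeff β) * D a + algebraMap K A (constantCoeff γ) * D a') := by ring
  rw [h5]
  exact Ideal.add_mem _ h4 (Ideal.add_mem _ (Ideal.mul_mem_left _ _ h2) (Ideal.mul_mem_left _ _ h1))

/-- The derivative of an integral fraction multiplies the maximal ideal into itself. -/
theorem der_quot (D : A →+ A) (hD : ∀ a b, D (a * b) = a * D b + b * D a)
    (hK : ∀ c : K, D (algebraMap K A c) = 0) {a s m : A} (hs : s ∈ nonZeroDivisors A) (hi : IntPair a s)
    (hm : m ∈ maximalIdeal A) : ∃ n ∈ maximalIdeal A, m * (s * D a - a * D s) = s ^ 2 * n := by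
  obtain ⟨n, hn, e1⟩ := h.mul_max hs hi hm
  obtain ⟨l, hl, e2⟩ := h.mul_max hs hi (h.der_max D hD hK hm)
  refine ⟨D n - l, Ideal.sub_mem _ (h.der_max D hD hK hn) hl, ?_⟩
  have e3 := congrArg D e1
  rw [hD, hD] at e3
  linear_combination s * e3 - s * e2 - D s * e1

/-- The structure of the integral closure modulo the maximal ideal. -/
theorem exists_split : ∃ u s c : A, s ∈ nonZeroDivisors A ∧ c ∈ maximalIdeal A ∧ u ^ 2 + s ^ 2 * c = s * u ∧
    ∀ a t : A, t ∈ nonZeroDivisors A → IntPair a t → ∃ (α β : K) (m : A), m ∈ maximalIdeal A ∧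
      s * a = algebraMap K A α * (s * t) + algebraMap K A β * (u * t) + m * (s * t) := by
  obtain ⟨a, ⟨e, he⟩, ⟨f, hf⟩⟩ := h.exists_coord
  obtain ⟨a', ⟨f', hf'⟩, ⟨e', he'⟩⟩ := h.symm.exists_coord
  have g1 : φ (a + a') = X * (1 + X ^ 3 * (e + e')) := by rw [map_add, he, he']; ring
  have g2 : ψ (a + a') = X * (1 + X ^ 3 * (f + f')) := by rw [map_add, hf, hf']; ring
  have u1 : constantCoeff (1 + X ^ 3 * (e + e')) ≠ 0 := by simp
  have u2 : constantCoeff (1 + X ^ 3 * (f + f')) ≠ 0 := by simp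
  have n1 : (1 + X ^ 3 * (e + e')) * (1 + X ^ 3 * (e + e'))⁻¹ = 1 := PowerSeries.mul_inv_cancel _ u1
  have n2 : (1 + X ^ 3 * (f + f')) * (1 + X ^ 3 * (f + f'))⁻¹ = 1 := PowerSeries.mul_inv_cancel _ u2
  generalize (1 + X ^ 3 * (e + e'))⁻¹ = v at n1
  generalize (1 + X ^ 3 * (f + f'))⁻¹ = w at n2
  have hv : constantCoeff v = 1 := by simpa using congrArg constantCoeff n1
  have hw : constantCoeff w = 1 := by simpa using congrArg constantCoeff n2
  have hs : a + a' ∈ nonZeroDivisors A := by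
    apply h.mem_nonZeroDivisors
    · rw [g1]
      refine mul_ne_zero X_ne_zero fun h0 => u1 (by rw [h0, map_zero])
    · rw [g2]
      refine mul_ne_zero X_ne_zero fun h0 => u2 (by rw [h0, map_zero])
  obtain ⟨c, hc, hc1, -⟩ := h.div ((a + a') ^ 2) (_root_.pow_mem hs 2) (a * a')
    ((1 + X ^ 3 * e) * X ^ 3 * e' * v ^ 2) ((1 + X ^ 3 * f') * X ^ 3 * f * w ^ 2) (by simp)
    (by
      rw [map_pow, g1, map_mul, he, he']
      linear_combination -((1 + X ^ 3 * e) * X ^ 5 * e') *
        ((1 + X ^ 3 * (e + e')) * v + 1) * n1)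
    (by
      rw [map_pow, g2, map_mul, hf, hf']
      linear_combination -((1 + X ^ 3 * f') * X ^ 5 * f) *
        ((1 + X ^ 3 * (f + f')) * w + 1) * n2)
  have hcm : c ∈ maximalIdeal A := (h.mem_iff c).2 (by rw [hc1]; simp)
  refine ⟨a, a + a', c, hs, hcm, ?_, fun b t ht hi => ?_⟩
  · rw [← hc]; ring
  · obtain ⟨β, γ, hβ, hγ⟩ := h.exists_vals ht hi
    obtain ⟨m, hm, hm1, -⟩ := h.div ((a + a') * t) (mul_mem hs ht)
      ((a + a') * b - algebraMap K A (constantCoeff γ) * ((a + a') * t) -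
        algebraMap K A (constantCoeff β - constantCoeff γ) * (a * t))
      (β - C (constantCoeff γ) - C (constantCoeff β - constantCoeff γ) * ((1 + X ^ 3 * e) * v))
      (γ - C (constantCoeff γ) - C (constantCoeff β - constantCoeff γ) * (X ^ 3 * f * w))
      (by simp [hv])
      (by
        rw [map_sub, map_sub, map_mul, map_mul, map_mul, map_mul, map_mul, h.φC, h.φC, g1, he, hβ]
        linear_combination (C (constantCoeff β - constantCoeff γ) * (1 + X ^ 3 * e) * X * φ t) * n1)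
      (by
        rw [map_sub, map_sub, map_mul, map_mul, map_mul, map_mul, map_mul, h.ψC, h.ψC, g2, hf, hγ]
        linear_combination (C (constantCoeff β - constantCoeff γ) * X ^ 4 * f * ψ t) * n2)
    refine ⟨constantCoeff γ, constantCoeff β - constantCoeff γ, m, (h.mem_iff m).2 ?_, ?_⟩
    · rw [hm1]
      simp [hv]
    · linear_combination hm

end IsBranch

/-- An element which multiplies the maximal ideal into itself is integral. -/
theorem dvd_of_mul_max {A R : Type u} [CommRing A] [IsLocalRing A] [IsNoetherianRing A] [CommRing R]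
    [IsDomain R] [IsIntegrallyClosed R] (f : A →+* R) {s δ : A} (hs : f s ≠ 0)
    (h : ∀ m ∈ maximalIdeal A, ∃ n ∈ maximalIdeal A, m * δ = s ^ 2 * n) : ∃ z, f δ = f s ^ 2 * z := by
  by_cases hsm : s ∈ maximalIdeal A
  · let F := FractionRing R
    let _ : Algebra A R := f.toAlgebra
    have hAF : ∀ x, algebraMap A F x = algebraMap R F (f x) := fun x =>
      IsScalarTower.algebraMap_apply A R F x
    have hs' : algebraMap A F s ≠ 0 := by
      rw [hAF]
      rwa [Ne, IsFractionRing.to_map_eq_zero_iff]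
    have h1 : IsIntegral A (algebraMap A F δ / algebraMap A F s ^ 2) := by
      refine isIntegral_of_smul_mem_submodule (A := F) (M := F)
        (Submodule.map (Algebra.linearMap A F) (maximalIdeal A)) ?_ ?_ _ ?_
      · intro h0
        have : algebraMap A F s ∈ Submodule.map (Algebra.linearMap A F) (maximalIdeal A) :=
          ⟨s, hsm, rfl⟩
        rw [h0] at this
        exact hs' this
      · exact Submodule.FG.map _ (IsNoetherian.noetherian _)
      · rintro _ ⟨m, hm, rfl⟩
        obtain ⟨n, hn, e⟩ := h m hm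
        refine ⟨n, hn, ?_⟩
        have e' := congrArg (algebraMap A F) e
        rw [map_mul, map_mul, map_pow] at e'
        rw [Algebra.linearMap_apply, Algebra.linearMap_apply, smul_eq_mul, div_mul_eq_mul_div,
          eq_div_iff (pow_ne_zero 2 hs')]
        linear_combination -e'
    have h2 : IsIntegral R (algebraMap A F δ / algebraMap A F s ^ 2) := h1.tower_top
    obtain ⟨z, hz⟩ := IsIntegrallyClosed.isIntegral_iff.1 h2
    refine ⟨z, ?_⟩
    apply IsFractionRing.injective R F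
    rw [map_mul, map_pow, hz, ← hAF, ← hAF]
    rw [mul_div_cancel₀ _ (pow_ne_zero 2 hs')]
  · obtain ⟨v, hv⟩ := ((notMem_maximalIdeal.1 hsm).pow 2).map f
    refine ⟨(↑v⁻¹ : R) * f δ, ?_⟩
    rw [← mul_assoc, ← map_pow, ← hv, Units.mul_inv, one_mul]

end K324.NodeAlg
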