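import Groth.Agent.Curves.K324.NodeNorm

/-!
# Derivations of an at-worst-nodal curve extend to the normalization
-/

set_option autoImplicit false
universe u

open CategoryTheory CategoryTheory.Limits AlgebraicGeometry TopologicalSpace Opposite IsLocalRing

namespace K324.NodeDer

open K324.NodeAlg K324.RDer K324.NodeNorm

variable {X X' : Scheme.{u}} (ν : X' ⟶ X) (U : X.Opens) (R : RD X)

/-- `r` is the value at `t` of the derivation of `O_{X'}` over `U` induced by `R`. -/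
def Rel (W : X'.Opens) (t r : Γ(X', W)) : Prop :=
  ∀ (w : X') (hw : w ∈ W), ν w ∈ U → ∀ σ : X.presheaf.stalk (ν w),
    ν.stalkMap w σ = X'.presheaf.germ W w hw t → X'.presheaf.germ W w hw r = ν.stalkMap w (R.st (ν w) σ)

variable {ν U R}

theorem Rel.res {W W' : X'.Opens} (h : W' ≤ W) {t r : Γ(X', W)} (H : Rel ν U R W t r) :
    Rel ν U R W' (X'.presheaf.map (homOfLE h).op t) (X'.presheaf.map (homOfLE h).op r) := by
  intro w hw hwU σ hσ
  rw [germ_res] at hσ ⊢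
  exact H w (h hw) hwU σ hσ

theorem Rel.add (hν : IsIso (ν ∣_ U)) {W : X'.Opens} {t r t' r' : Γ(X', W)} (H : Rel ν U R W t r)
    (H' : Rel ν U R W t' r') : Rel ν U R W (t + t') (r + r') := by
  intro w hw hwU σ hσ
  obtain ⟨σ₁, h₁⟩ := (bijective_stalkMap hν w hwU).2 (X'.presheaf.germ W w hw t)
  obtain ⟨σ₂, h₂⟩ := (bijective_stalkMap hν w hwU).2 (X'.presheaf.germ W w hw t')
  have : σ = σ₁ + σ₂ := by
    apply (bijective_stalkMap hν w hwU).1
    rw [hσ, map_add, map_add, h₁, h₂]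
  rw [this, map_add, map_add, map_add, H w hw hwU σ₁ h₁, H' w hw hwU σ₂ h₂]

theorem Rel.mul (hν : IsIso (ν ∣_ U)) {W : X'.Opens} {t r t' r' : Γ(X', W)} (H : Rel ν U R W t r)
    (H' : Rel ν U R W t' r') : Rel ν U R W (t * t') (t * r' + t' * r) := by
  intro w hw hwU σ hσ
  obtain ⟨σ₁, h₁⟩ := (bijective_stalkMap hν w hwU).2 (X'.presheaf.germ W w hw t)
  obtain ⟨σ₂, h₂⟩ := (bijective_stalkMap hν w hwU).2 (X'.presheaf.germ W w hw t')
  have : σ = σ₁ * σ₂ := by
    apply (bijective_stalkMap hν w hwU).1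
    rw [hσ, map_mul, map_mul, h₁, h₂]
  rw [this, R.st_mul, map_add, map_add, map_mul, map_mul, map_mul, map_mul, H w hw hwU σ₁ h₁,
    H' w hw hwU σ₂ h₂, h₁, h₂]

theorem Rel.unique [IsReduced X'] (hU' : Dense ((ν ⁻¹ᵁ U : X'.Opens) : Set X')) (hν : IsIso (ν ∣_ U))
    {W : X'.Opens} {t r r' : Γ(X', W)} (H : Rel ν U R W t r) (H' : Rel ν U R W t r') : r = r' := by
  refine eq_of_dense hU' fun w hw hwU => ?_
  obtain ⟨σ, h⟩ := (bijective_stalkMap hν w hwU).2 (X'.presheaf.germ W w hw t)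
  rw [H w hw hwU σ h, H' w hw hwU σ h]

theorem Rel.app (hν : IsIso (ν ∣_ U)) (V : X.Opens) (a : Γ(X, V)) :
    Rel ν U R (ν ⁻¹ᵁ V) (ν.app V a) (ν.app V (R.d V a)) := by
  intro w hw hwU σ hσ
  have hw' : ν w ∈ V := hw
  have : σ = X.presheaf.germ V (ν w) hw' a := by
    apply (bijective_stalkMap hν w hwU).1
    rw [hσ, germ_app]
  rw [this, R.st_germ, germ_app]

/-- Differentiability of a germ. -/
def E (ν : X' ⟶ X) (U : X.Opens) (R : RD X) (w : X') (τ : X'.presheaf.stalk w) : Prop :=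
  ∃ (N : X'.Opens) (hw : w ∈ N) (t r : Γ(X', N)), X'.presheaf.germ N w hw t = τ ∧ Rel ν U R N t r

theorem E.mul (hν : IsIso (ν ∣_ U)) {w : X'} {τ τ' : X'.presheaf.stalk w} (h : E ν U R w τ)
    (h' : E ν U R w τ') : E ν U R w (τ * τ') := by
  obtain ⟨N, hw, t, r, rfl, H⟩ := h
  obtain ⟨N', hw', t', r', rfl, H'⟩ := h'
  refine ⟨N ⊓ N', ⟨hw, hw'⟩, X'.presheaf.map (homOfLE inf_le_left).op t *
    X'.presheaf.map (homOfLE inf_le_right).op t', _, ?_, (H.res inf_le_left).mul hν (H'.res inf_le_right)⟩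
  rw [map_mul]
  exact congrArg₂ (· * ·) (germ_res inf_le_left w ⟨hw, hw'⟩ t) (germ_res inf_le_right w ⟨hw, hw'⟩ t')

theorem st_one (x : X) : R.st x 1 = 0 := by
  have := R.st_mul x 1 1
  rw [mul_one, one_mul] at this
  simpa using this

theorem E.inv (hν : IsIso (ν ∣_ U)) {w : X'} {τ τ' : X'.presheaf.stalk w} (h : E ν U R w τ)
    (h' : τ * τ' = 1) : E ν U R w τ' := by
  obtain ⟨N, hw, t, r, rfl, H⟩ := h
  obtain ⟨N', hw', t', rfl⟩ := TopCat.Presheaf.exists_germ_eq X'.presheaf τ'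
  have h1 : X'.presheaf.germ (N ⊓ N') w ⟨hw, hw'⟩ (X'.presheaf.map (homOfLE inf_le_left).op t *
      X'.presheaf.map (homOfLE inf_le_right).op t') = X'.presheaf.germ (N ⊓ N') w ⟨hw, hw'⟩ 1 := by
    rw [map_mul, map_one, ← h']
    exact congrArg₂ (· * ·) (germ_res inf_le_left w ⟨hw, hw'⟩ t) (germ_res inf_le_right w ⟨hw, hw'⟩ t')
  obtain ⟨N₁, hw₁, i, i', e⟩ := exists_eq w _ _ _ _ h1
  rw [map_one, map_mul] at e
  have H1 := (H.res inf_le_left).res i
  generalize X'.presheaf.map (homOfLE i).op (X'.presheaf.map (homOfLE inf_le_left).op t) = t₁ at H1 e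
  generalize X'.presheaf.map (homOfLE i).op (X'.presheaf.map (homOfLE inf_le_left).op r) = r₁ at H1
  refine ⟨N₁, hw₁, X'.presheaf.map (homOfLE i).op (X'.presheaf.map (homOfLE inf_le_right).op t'),
    -(X'.presheaf.map (homOfLE i).op (X'.presheaf.map (homOfLE inf_le_right).op t')) ^ 2 * r₁, ?_, ?_⟩
  · rw [germ_res]
    exact germ_res inf_le_right w ⟨hw, hw'⟩ t'
  · generalize X'.presheaf.map (homOfLE i).op (X'.presheaf.map (homOfLE inf_le_right).op t') = t₂ at e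
    intro v hv hvU σ hσ
    obtain ⟨σ₁, h₁⟩ := (bijective_stalkMap hν v hvU).2 (X'.presheaf.germ N₁ v hv t₁)
    have h2 : σ₁ * σ = 1 := by
      apply (bijective_stalkMap hν v hvU).1
      rw [map_mul, hσ, h₁, ← map_mul, e, map_one, map_one]
    have h3 := congrArg (R.st (ν v)) h2
    rw [R.st_mul, st_one] at h3
    have h4 : R.st (ν v) σ = - σ ^ 2 * R.st (ν v) σ₁ := by
      linear_combination σ * h3 - (R.st (ν v) σ) * h2
    rw [h4, map_mul, map_mul, map_neg, map_neg, map_pow, map_pow, hσ, H1 v hv hvU σ₁ h₁]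

/-- The essential point: fractions are differentiable. -/
theorem E.of_den [IsIntegralHom ν] [IsReduced X] [IsLocallyNoetherian X]
    (hX' : ∀ w : X', IsDomain (X'.presheaf.stalk w))
    (hU : Dense (U : Set X)) (hU' : Dense ((ν ⁻¹ᵁ U : X'.Opens) : Set X')) (hν : IsIso (ν ∣_ U)) {V : X.Opens}
    (hV : IsAffineOpen V) (b : Γ(X', ν ⁻¹ᵁ V)) (w : X') (hw : w ∈ ν ⁻¹ᵁ V)
    (hloc : ∀ a s : X.presheaf.stalk (ν w), s ∈ nonZeroDivisors (X.presheaf.stalk (ν w)) → IntPair a s →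
      ν.stalkMap w s ≠ 0 →
      ∃ z, ν.stalkMap w (s * R.st _ a - a * R.st _ s) = ν.stalkMap w s ^ 2 * z) :
    E ν U R w (X'.presheaf.germ _ w hw b) := by
  obtain ⟨s, a, hs, h⟩ := exists_den hU hν hV b
  have hw' : ν w ∈ V := hw
  obtain ⟨z, hz⟩ := hloc _ _ (germ_mem_nonZeroDivisors hV hs (ν w) hw') (intPair_germ hU hν hV h (ν w) hw')
    (by rw [← germ_app w hw]; exact germ_app_ne_zero hU' hν hV hs w hw)
  obtain ⟨N₁, hw₁, r₁, rfl⟩ := TopCat.Presheaf.exists_germ_eq X'.presheaf z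
  have h1 : X'.presheaf.germ (ν ⁻¹ᵁ V) w hw (ν.app V (s * R.d V a - a * R.d V s)) =
      X'.presheaf.germ (N₁ ⊓ ν ⁻¹ᵁ V) w ⟨hw₁, hw⟩ (X'.presheaf.map (homOfLE inf_le_right).op (ν.app V s) ^ 2 *
        X'.presheaf.map (homOfLE inf_le_left).op r₁) := by
    rw [germ_app, map_sub, map_mul, map_mul, ← R.st_germ, ← R.st_germ, hz, map_mul, map_pow, ← germ_app w hw]
    exact congrArg₂ (fun x y => x ^ 2 * y) (germ_res inf_le_right w ⟨hw₁, hw⟩ _).symm
      (germ_res inf_le_left w ⟨hw₁, hw⟩ _).symm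
  obtain ⟨N, hwN, i, i', e⟩ := exists_eq w _ _ _ _ h1
  refine ⟨N, hwN, X'.presheaf.map (homOfLE i).op b,
    X'.presheaf.map (homOfLE (i'.trans inf_le_left)).op r₁, germ_res _ _ _ _, ?_⟩
  intro v hv hvU σ hσ
  rw [germ_res] at hσ ⊢
  have hvV : v ∈ ν ⁻¹ᵁ V := i hv
  have hvV' : ν v ∈ V := i hv
  have := hX' v
  have hne := germ_app_ne_zero hU' hν hV hs v hvV
  apply mul_left_cancel₀ (pow_ne_zero 2 hne)
  have e1 := congrArg (X'.presheaf.germ N v hv) e
  rw [germ_res, map_mul, map_mul, map_pow, map_pow, germ_res, germ_res, germ_res, germ_res] at e1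
  refine e1.symm.trans ?_
  rw [germ_app, germ_app, ← map_pow, ← map_mul]
  congr 1
  have h2 : X.presheaf.germ V (ν v) hvV' a = X.presheaf.germ V (ν v) hvV' s * σ := by
    apply (bijective_stalkMap hν v hvU).1
    rw [map_mul, hσ, ← germ_app v hvV, ← germ_app v hvV, ← h, map_mul]
  have h3 := congrArg (R.st (ν v)) h2
  rw [R.st_mul, R.st_germ, R.st_germ] at h3
  rw [map_sub, map_mul, map_mul, h3, h2]
  ring

/-- Local existence implies existence. -/
theorem exists_rel [IsReduced X'] (hU' : Dense ((ν ⁻¹ᵁ U : X'.Opens) : Set X')) (hν : IsIso (ν ∣_ U))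
    (hE : ∀ (w : X') (τ : X'.presheaf.stalk w), E ν U R w τ) (W : X'.Opens) (t : Γ(X', W)) :
    ∃ r : Γ(X', W), Rel ν U R W t r := by
  obtain ⟨r, hr⟩ := exists_glue (X := X') W (fun N r => ∃ h : N ≤ W, Rel ν U R N (X'.presheaf.map (homOfLE h).op t) r)
    (fun N N' h r ⟨h1, h2⟩ => ⟨h.trans h1, by
      have h3 := h2.res h
      rw [← CommRingCat.comp_apply, ← Functor.map_comp] at h3
      exact h3⟩)
    (fun N r r' _ ⟨_, h1⟩ ⟨_, h2⟩ => h1.unique hU' hν h2)
    (fun w hw => by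
      obtain ⟨N, hwN, t', r, e, H⟩ := hE w (X'.presheaf.germ W w hw t)
      obtain ⟨N', hwN', i, i', e'⟩ := exists_eq w _ _ _ _ e
      refine ⟨N', i', hwN', X'.presheaf.map (homOfLE i).op r, i', ?_⟩
      rw [← e']
      exact H.res i)
  refine ⟨r, fun w hw hwU σ hσ => ?_⟩
  obtain ⟨N, h, hwN, h', H⟩ := hr w hw
  have := H w hwN hwU σ (by rw [germ_res]; exact hσ)
  rwa [germ_res] at this

/-- The extended derivation. -/
theorem exists_ext [IsReduced X'] (hU' : Dense ((ν ⁻¹ᵁ U : X'.Opens) : Set X')) (hν : IsIso (ν ∣_ U))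
    (hE : ∀ (w : X') (τ : X'.presheaf.stalk w), E ν U R w τ) :
    ∃ R' : RD X', ∀ (W : X'.Opens) (t : Γ(X', W)), Rel ν U R W t (R'.d W t) := by
  choose r hr using exists_rel (R := R) hU' hν hE
  refine ⟨{ d := fun W => AddMonoidHom.mk' (r W) fun t t' =>
              (hr W _).unique hU' hν ((hr W t).add hν (hr W t'))
            mul := fun W t t' => (hr W _).unique hU' hν ((hr W t).mul hν (hr W t'))
            res := fun {W W'} h t => (hr W' _).unique hU' hν ((hr W t).res h) }, hr⟩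

end K324.NodeDer
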