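import Groth.Agent.Curves.K324.NodeDer2

/-!
# Derivations of the normalization of an at-worst-nodal curve which fix the points over the nodes descend
-/

set_option autoImplicit false
universe u

open CategoryTheory CategoryTheory.Limits AlgebraicGeometry TopologicalSpace Opposite IsLocalRing

attribute [local instance] Curv2.stalkAlgebra

namespace K324.NodeDer3

open K324.NodeAlg K324.RDer K324.NodeNorm K324.NodeDer K324.NodeDer2

section General

variable {X X' : Scheme.{u}} {ν : X' ⟶ X} {U : X.Opens}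

theorem res_res {Z : Scheme.{u}} {V V' V'' : Z.Opens} (h : V' ≤ V) (h' : V'' ≤ V') (s : Γ(Z, V)) :
    Z.presheaf.map (homOfLE h').op (Z.presheaf.map (homOfLE h).op s) =
      Z.presheaf.map (homOfLE (h'.trans h)).op s := by
  rw [← CommRingCat.comp_apply, ← Functor.map_comp]
  rfl

/-- A section vanishing at all points over the closed point `x` has a power in the ideal generated by the ideal of `x`. -/
theorem exists_pow_mem [IsAffineHom ν] {V : X.Opens} (hV : IsAffineOpen V) (x : X) (hx : x ∈ V)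
    (hxc : IsClosed ({x} : Set X)) (b : Γ(X', ν ⁻¹ᵁ V))
    (hb : ∀ (w : X') (hw : w ∈ ν ⁻¹ᵁ V), ν w = x →
      X'.presheaf.germ _ w hw b ∈ maximalIdeal (X'.presheaf.stalk w)) :
    ∃ n : ℕ, b ^ n ∈ (hV.primeIdealOf ⟨x, hx⟩).asIdeal.map (ν.app V).hom := by
  have hp : (hV.primeIdealOf ⟨x, hx⟩).asIdeal.IsMaximal := hV.primeIdealOf_isMaximal_of_isClosed ⟨x, hx⟩ hxc
  have hV' : IsAffineOpen (ν ⁻¹ᵁ V) := hV.preimage ν
  rw [← Ideal.mem_radical_iff, Ideal.radical_eq_sInf, Ideal.mem_sInf]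
  rintro q ⟨hq, hq'⟩
  obtain ⟨w, hw, hwq⟩ : ∃ (w : X') (hw : w ∈ ν ⁻¹ᵁ V), hV'.primeIdealOf ⟨w, hw⟩ = ⟨q, hq'⟩ := by
    have hw : hV'.fromSpec (⟨q, hq'⟩ : PrimeSpectrum _) ∈ ν ⁻¹ᵁ V := by
      have := hV'.range_fromSpec
      have h2 : hV'.fromSpec (⟨q, hq'⟩ : PrimeSpectrum _) ∈ Set.range hV'.fromSpec := ⟨_, rfl⟩
      rw [this] at h2
      exact h2
    refine ⟨_, hw, ?_⟩
    exact hV'.fromSpec.isOpenEmbedding.injective (hV'.fromSpec_primeIdealOf ⟨_, hw⟩)
  have h1 := IsAffineOpen.comap_primeIdealOf_appLE (f := ν) (x := w) V hV (ν ⁻¹ᵁ V) hV' le_rfl hw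
  have h2 : (hV.primeIdealOf ⟨x, hx⟩).asIdeal ≤ (hV.primeIdealOf ⟨ν w, hw⟩).asIdeal := by
    rw [← h1, hwq]
    intro z hz
    have h3 := hq (Ideal.mem_map_of_mem _ hz)
    change ν.appLE V (ν ⁻¹ᵁ V) le_rfl z ∈ q
    rw [Scheme.Hom.appLE_eq_app]
    exact h3
  have h4 : (hV.primeIdealOf ⟨x, hx⟩).asIdeal = (hV.primeIdealOf ⟨ν w, hw⟩).asIdeal :=
    hp.eq_of_le (hV.primeIdealOf ⟨ν w, hw⟩).2.ne_top h2
  have h5 : hV.primeIdealOf ⟨x, hx⟩ = hV.primeIdealOf ⟨ν w, hw⟩ := PrimeSpectrum.ext h4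
  have h6 : ν w = x := by
    have := congrArg hV.fromSpec h5
    rw [hV.fromSpec_primeIdealOf, hV.fromSpec_primeIdealOf] at this
    exact this.symm
  have h7 := hb w hw h6
  let _ := X'.presheaf.algebra_section_stalk ⟨w, hw⟩
  have hloc : IsLocalization.AtPrime (X'.presheaf.stalk w) (hV'.primeIdealOf ⟨w, hw⟩).asIdeal :=
    hV'.isLocalization_stalk ⟨w, hw⟩
  have h8 := (IsLocalization.AtPrime.to_map_mem_maximal_iff (X'.presheaf.stalk w)
    (hV'.primeIdealOf ⟨w, hw⟩).asIdeal b).1 h7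
  rw [hwq] at h8
  exact h8

end General

section Curve

variable (k : Type u) [Field k] [IsAlgClosed k] {X X' : Scheme.{u}} [X.Over (Spec (CommRingCat.of k))]
  [LocallyOfFiniteType (X ↘ (Spec (CommRingCat.of k)))] {ν : X' ⟶ X} {U : X.Opens}

/-- Sections over the preimage of a neighbourhood of a node vanishing at all points over the node are in the
maximal ideal of the node. -/
theorem exists_of_vanish [IsFinite ν] [IsReduced X]
    (hU : Dense (U : Set X)) (hν : IsIso (ν ∣_ U)) {V : X.Opens} (hV : IsAffineOpen V) (x : X) (hx : x ∈ V)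
    (hxn : Curv2.IsNode k X x) (b : Γ(X', ν ⁻¹ᵁ V))
    (hb : ∀ (w : X') (hw : w ∈ ν ⁻¹ᵁ V), ν w = x →
      X'.presheaf.germ _ w hw b ∈ maximalIdeal (X'.presheaf.stalk w))
    {s a : Γ(X, V)} (hs : s ∈ nonZeroDivisors Γ(X, V)) (h : ν.app V s * b = ν.app V a) :
    ∃ m ∈ maximalIdeal (X.presheaf.stalk x), X.presheaf.germ V x hx a = X.presheaf.germ V x hx s * m := by
  have : IsLocallyNoetherian X :=
    Groth.Agent.CurvesB.NodeSch2.isLocallyNoetherian_of_locallyOfFiniteType (X ↘ (Spec (CommRingCat.of k)))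
  obtain ⟨φ, ψ, hbr⟩ := exists_isBranch_of_isNode X k x hxn
  obtain ⟨n, hn⟩ := exists_pow_mem hV x hx hxn.1 b hb
  let _ := X.presheaf.algebra_section_stalk ⟨x, hx⟩
  have hloc : IsLocalization.AtPrime (X.presheaf.stalk x) (hV.primeIdealOf ⟨x, hx⟩).asIdeal :=
    hV.isLocalization_stalk ⟨x, hx⟩
  have key : ∀ z ∈ (hV.primeIdealOf ⟨x, hx⟩).asIdeal.map (ν.app V).hom, ∃ (s₁ a₁ : Γ(X, V))
      (m : X.presheaf.stalk x), s₁ ∈ nonZeroDivisors Γ(X, V) ∧ m ∈ maximalIdeal (X.presheaf.stalk x) ∧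
      ν.app V s₁ * z = ν.app V a₁ ∧ X.presheaf.germ V x hx a₁ = X.presheaf.germ V x hx s₁ * m := by
    intro z hz
    refine Submodule.span_induction ?_ ?_ ?_ ?_ hz
    · rintro _ ⟨p, hp, rfl⟩
      refine ⟨1, p, X.presheaf.germ V x hx p, one_mem _, ?_, ?_, ?_⟩
      · exact (IsLocalization.AtPrime.to_map_mem_maximal_iff (X.presheaf.stalk x)
          (hV.primeIdealOf ⟨x, hx⟩).asIdeal p).2 hp
      · rw [map_one, one_mul]
      · rw [map_one, one_mul]
    · exact ⟨1, 0, 0, one_mem _, Ideal.zero_mem _, by rw [map_one, one_mul, map_zero], by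
        rw [map_zero, mul_zero]⟩
    · rintro z z' - - ⟨s₁, a₁, m, hs₁, hm, e1, e2⟩ ⟨s₁', a₁', m', hs₁', hm', e1', e2'⟩
      refine ⟨s₁ * s₁', a₁ * s₁' + a₁' * s₁, m + m', mul_mem hs₁ hs₁', Ideal.add_mem _ hm hm', ?_, ?_⟩
      · rw [map_mul, map_add, map_mul, map_mul]
        linear_combination (ν.app V s₁') * e1 + (ν.app V s₁) * e1'
      · rw [map_mul, map_add, map_mul, map_mul]
        linear_combination (X.presheaf.germ V x hx s₁') * e2 + (X.presheaf.germ V x hx s₁) * e2'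
    · rintro z' z - ⟨s₁, a₁, m, hs₁, hm, e1, e2⟩
      obtain ⟨s', a', hs', e'⟩ := exists_den hU hν hV z'
      obtain ⟨m', hm', e3⟩ := hbr.mul_max (germ_mem_nonZeroDivisors hV hs' x hx)
        (intPair_germ hU hν hV e' x hx) hm
      refine ⟨s' * s₁, a' * a₁, m', mul_mem hs' hs₁, hm', ?_, ?_⟩
      · rw [map_mul, map_mul, smul_eq_mul]
        linear_combination (ν.app V s' * z') * e1 + (ν.app V a₁) * e'
      · rw [map_mul, map_mul]
        linear_combination (X.presheaf.germ V x hx a') * e2 + (X.presheaf.germ V x hx s₁) * e3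
  obtain ⟨s₁, a₁, m, hs₁, hm, e1, e2⟩ := key _ hn
  have e3 : s₁ * a ^ n = s ^ n * a₁ := by
    apply injective_app hU hν V
    rw [map_mul, map_mul, map_pow, map_pow, ← e1, ← h]
    ring
  have e4 : X.presheaf.germ V x hx a ^ n = X.presheaf.germ V x hx s ^ n * m := by
    have e5 := congrArg (X.presheaf.germ V x hx) e3
    rw [map_mul, map_mul, map_pow, map_pow, e2] at e5
    have h6 := germ_mem_nonZeroDivisors hV hs₁ x hx
    rw [← mul_cancel_left_mem_nonZeroDivisors h6, e5]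
    ring
  exact hbr.mem_of_pow (germ_mem_nonZeroDivisors hV hs x hx) (intPair_germ hU hν hV h x hx) hm e4

/-- Local descent of derivations. -/
theorem exists_local [IsFinite ν] (hdim : topologicalKrullDim X ≤ 1) (hX : Curv2.AtWorstNodal k X)
    (hX' : Pi1.IsNormalScheme X')
    (hU : Dense (U : Set X)) (hU' : Dense ((ν ⁻¹ᵁ U : X'.Opens) : Set X')) (hν : IsIso (ν ∣_ U))
    (D' : OmegaSh.Der (ν ≫ (X ↘ (Spec (CommRingCat.of k)))) (Coh.structureModule X'))
    (hfix : ∀ x' : X', Curv2.IsNode k X (ν x') →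
        ∀ (W : X'.Opens) (hx : x' ∈ W) (t : Γ(X', W)),
          X'.presheaf.germ W x' hx t ∈ IsLocalRing.maximalIdeal (X'.presheaf.stalk x') →
          X'.presheaf.germ W x' hx ((RD.ofDer D').d W t) ∈ IsLocalRing.maximalIdeal (X'.presheaf.stalk x'))
    (V : X.Opens) (x : X) (hx : x ∈ V) (s : Γ(X, V)) :
    ∃ (N : X.Opens) (h : N ≤ V) (_ : x ∈ N) (r : Γ(X, N)),
      ν.app N r = (RD.ofDer D').d (ν ⁻¹ᵁ N) (ν.app N (X.presheaf.map (homOfLE h).op s)) := by
  have : IsReduced X := isReduced_of_atWorstNodal X k hX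
  have : IsLocallyNoetherian X :=
    Groth.Agent.CurvesB.NodeSch2.isLocallyNoetherian_of_locallyOfFiniteType (X ↘ (Spec (CommRingCat.of k)))
  obtain ⟨V₁, hV₁, hxV₁, hle⟩ := exists_isAffineOpen_mem_and_subset (x := x) (U := V) hx
  have hle' : V₁ ≤ V := hle
  let s₁ : Γ(X, V₁) := X.presheaf.map (homOfLE hle').op s
  let b : Γ(X', ν ⁻¹ᵁ V₁) := (RD.ofDer D').d (ν ⁻¹ᵁ V₁) (ν.app V₁ s₁)
  obtain ⟨s', a, hs', h⟩ := exists_den hU hν hV₁ b
  -- it suffices to find the fraction in the local ring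
  suffices hsuff : ∃ σ, X.presheaf.germ V₁ x hxV₁ a = X.presheaf.germ V₁ x hxV₁ s' * σ by
    obtain ⟨σ, hσ⟩ := hsuff
    obtain ⟨N, hN, hxN, r, hr, -⟩ := exists_descend (fun w => (hX' w).1) hU' hν hV₁ hs' h x hxV₁ σ hσ
    refine ⟨N, hN.trans hle', hxN, r, ?_⟩
    rw [← hr, ← (RD.ofDer D').res, ← app_res hN, res_res]
  rcases normal_or_node X k hdim hX x with ⟨h1, h2⟩ | hnode
  · exact (intPair_germ hU hν hV₁ h x hxV₁).exists_of_isIntegrallyClosed
      (nonZeroDivisors.ne_zero (germ_mem_nonZeroDivisors hV₁ hs' x hxV₁))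
  · -- subtract the value at the node
    obtain ⟨φ, ψ, hbr⟩ := exists_isBranch_of_isNode X k x hnode
    let c : k := PowerSeries.constantCoeff (φ (X.presheaf.germ V₁ x hxV₁ s₁))
    have hxt : x ∈ (⊤ : X.Opens) := trivial
    let cc : Γ(X, ⊤) := (X ↘ (Spec (CommRingCat.of k))).app ⊤ ((Scheme.ΓSpecIso (CommRingCat.of k)).inv c)
    have hcc : X.presheaf.germ ⊤ x hxt cc = algebraMap k _ c := rfl
    have hdc : (RD.ofDer D').d (ν ⁻¹ᵁ ⊤) (ν.app ⊤ cc) = 0 :=
      RD.ofDer_base D' ⊤ ((Scheme.ΓSpecIso (CommRingCat.of k)).inv c)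
    let c₁ : Γ(X, V₁) := X.presheaf.map (homOfLE le_top).op cc
    have hc₁ : X.presheaf.germ V₁ x hxV₁ c₁ = algebraMap k _ c := (germ_res _ _ _ _).trans hcc
    have hdc₁ : (RD.ofDer D').d (ν ⁻¹ᵁ V₁) (ν.app V₁ c₁) = 0 := by
      rw [app_res, (RD.ofDer D').res, hdc, map_zero]
    have hmem : X.presheaf.germ V₁ x hxV₁ (s₁ - c₁) ∈ maximalIdeal (X.presheaf.stalk x) := by
      rw [hbr.mem_iff, map_sub, map_sub, hc₁, hbr.φC, map_sub, PowerSeries.constantCoeff_C, sub_self]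
    have hb' : b = (RD.ofDer D').d (ν ⁻¹ᵁ V₁) (ν.app V₁ (s₁ - c₁)) := by
      rw [map_sub, map_sub, hdc₁, sub_zero]
    obtain ⟨m, -, hm⟩ := exists_of_vanish k hU hν hV₁ x hxV₁ hnode b (fun w hw hwx => by
      subst hwx
      rw [hb']
      refine hfix w hnode _ hw _ ?_
      rw [germ_app]
      exact map_nonunit (ν.stalkMap w).hom _ hmem) hs' h
    exact ⟨m, hm⟩

/-- Descent of derivations. -/
theorem exists_desc [IsFinite ν] (hdim : topologicalKrullDim X ≤ 1) (hX : Curv2.AtWorstNodal k X)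
    (hX' : Pi1.IsNormalScheme X')
    (hU : Dense (U : Set X)) (hU' : Dense ((ν ⁻¹ᵁ U : X'.Opens) : Set X')) (hν : IsIso (ν ∣_ U))
    (D' : OmegaSh.Der (ν ≫ (X ↘ (Spec (CommRingCat.of k)))) (Coh.structureModule X'))
    (hfix : ∀ x' : X', Curv2.IsNode k X (ν x') →
        ∀ (W : X'.Opens) (hx : x' ∈ W) (t : Γ(X', W)),
          X'.presheaf.germ W x' hx t ∈ IsLocalRing.maximalIdeal (X'.presheaf.stalk x') →
          X'.presheaf.germ W x' hx ((RD.ofDer D').d W t) ∈ IsLocalRing.maximalIdeal (X'.presheaf.stalk x')) :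
    ∃ R : RD X, ∀ (V : X.Opens) (s : Γ(X, V)),
      ν.app V (R.d V s) = (RD.ofDer D').d (ν ⁻¹ᵁ V) (ν.app V s) := by
  have : IsReduced X := isReduced_of_atWorstNodal X k hX
  have key : ∀ (V : X.Opens) (s : Γ(X, V)), ∃ r : Γ(X, V),
      ν.app V r = (RD.ofDer D').d (ν ⁻¹ᵁ V) (ν.app V s) := by
    intro V s
    obtain ⟨r, hr⟩ := exists_glue (X := X) V (fun N r => ∃ h : N ≤ V,
        ν.app N r = (RD.ofDer D').d (ν ⁻¹ᵁ N) (ν.app N (X.presheaf.map (homOfLE h).op s)))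
      (fun N N' h r ⟨h1, h2⟩ => ⟨h.trans h1, by
        rw [app_res, h2, ← (RD.ofDer D').res, ← app_res h, res_res]⟩)
      (fun N r r' _ ⟨_, h1⟩ ⟨_, h2⟩ => injective_app hU hν N (h1.trans h2.symm))
      (fun x hx => by
        obtain ⟨N, h, hxN, r, hr⟩ := exists_local k hdim hX hX' hU hU' hν D' hfix V x hx s
        exact ⟨N, h, hxN, r, h, hr⟩)
    refine ⟨r, section_ext fun w hw => ?_⟩
    obtain ⟨N, h, hwN, h', H⟩ := hr (ν w) hw
    have hwN' : w ∈ ν ⁻¹ᵁ N := hwN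
    have e1 := congrArg (X'.presheaf.germ _ w hwN') H
    rw [app_res, app_res, (RD.ofDer D').res] at e1
    exact (germ_res _ _ _ _).symm.trans (e1.trans (germ_res _ _ _ _))
  choose r hr using key
  exact ⟨{ d := fun V => AddMonoidHom.mk' (r V) fun s t => injective_app hU hν V (by
              rw [hr, map_add, map_add, map_add, hr, hr])
           mul := fun V s t => injective_app hU hν V (by
              change ν.app V (r V (s * t)) = ν.app V (s * r V t + t * r V s)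
              rw [hr, map_mul, (RD.ofDer D').mul, map_add, map_mul, map_mul, hr, hr])
           res := fun {V V'} h s => injective_app hU hν V' (by
              change ν.app V' (r V' _) = ν.app V' (X.presheaf.map _ (r V s))
              rw [hr, app_res, app_res, (RD.ofDer D').res, hr]) }, hr⟩

end Curve

end K324.NodeDer3
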