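import Groth.Agent.S18426
import Groth.Agent.S4448
import Mathlib.AlgebraicGeometry.Normalization

/-!
# The normalization of a normal scheme in a finite separable extension of its function field
-/

set_option autoImplicit false
universe u

open CategoryTheory CategoryTheory.Limits AlgebraicGeometry TopologicalSpace Opposite

namespace K324.NormExt

theorem topLe {Y Z : Scheme.{u}} {p : Y ⟶ Z} {W : Z.Opens} (h : ∀ x, p x ∈ W) : ⊤ ≤ p ⁻¹ᵁ W := fun x _ => h x

theorem appLE_top {Y Z : Scheme.{u}} (p : Y ⟶ Z) (h : (⊤ : Y.Opens) ≤ p ⁻¹ᵁ ⊤) : p.appLE ⊤ ⊤ h = p.appTop :=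
  Scheme.Hom.appLE_eq_app p

/-- Evaluation of functions at a field valued point. -/
noncomputable def evH {L : Type u} [Field L] {Z : Scheme.{u}} (p : Spec (CommRingCat.of L) ⟶ Z) (W : Z.Opens)
    (h : ∀ x, p x ∈ W) : Γ(Z, W) ⟶ CommRingCat.of L :=
  p.appLE W ⊤ (topLe h) ≫ (Scheme.ΓSpecIso (CommRingCat.of L)).hom

/-- Evaluation of functions at a field valued point. -/
noncomputable def ev {L : Type u} [Field L] {Z : Scheme.{u}} (p : Spec (CommRingCat.of L) ⟶ Z) (W : Z.Opens)
    (h : ∀ x, p x ∈ W) : Γ(Z, W) →+* L := (evH p W h).hom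

section Ev

variable {L : Type u} [Field L] {Z Z' : Scheme.{u}} (p : Spec (CommRingCat.of L) ⟶ Z)

theorem evH_res {W W' : Z.Opens} (i : W' ≤ W) (h : ∀ x, p x ∈ W') :
    Z.presheaf.map (homOfLE i).op ≫ evH p W' h = evH p W (fun x => i (h x)) := by
  rw [evH, evH, ← Category.assoc, Scheme.Hom.map_appLE]

theorem ev_res {W W' : Z.Opens} (i : W' ≤ W) (h : ∀ x, p x ∈ W') (a : Γ(Z, W)) :
    ev p W' h (Z.presheaf.map (homOfLE i).op a) = ev p W (fun x => i (h x)) a :=
  congr($(evH_res p i h) a)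

theorem evH_comp (q : Z ⟶ Z') (V : Z'.Opens) (h : ∀ x, (p ≫ q) x ∈ V) (h' : ∀ x, p x ∈ q ⁻¹ᵁ V) :
    evH (p ≫ q) V h = q.app V ≫ evH p (q ⁻¹ᵁ V) h' := by
  rw [evH, evH, Scheme.Hom.comp_appLE, Category.assoc]

theorem ev_comp (q : Z ⟶ Z') (V : Z'.Opens) (h : ∀ x, (p ≫ q) x ∈ V) (h' : ∀ x, p x ∈ q ⁻¹ᵁ V) (a : Γ(Z', V)) :
    ev (p ≫ q) V h a = ev p (q ⁻¹ᵁ V) h' (q.app V a) :=
  congr($(evH_comp p q V h h') a)

/-- Evaluation at a dominant field valued point of a reduced scheme is injective. -/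
theorem ev_injective [IsReduced Z] [IsDominant p] (W : Z.Opens) (h : ∀ x, p x ∈ W) :
    Function.Injective (ev p W h) := by
  rw [injective_iff_map_eq_zero]
  intro a ha
  rw [← basicOpen_eq_bot_iff, eq_bot_iff]
  intro x hx
  have hd := p.denseRange
  obtain ⟨y, hy⟩ := hd.exists_mem_open (Z.basicOpen a).isOpen ⟨x, hx⟩
  have h1 : p.appLE W ⊤ (topLe h) a = 0 := by
    have h2 : (Scheme.ΓSpecIso (CommRingCat.of L)).hom (p.appLE W ⊤ (topLe h) a) = 0 := ha
    have h3 := congrArg (Scheme.ΓSpecIso (CommRingCat.of L)).inv h2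
    rw [← CommRingCat.comp_apply, Iso.hom_inv_id, map_zero] at h3
    exact h3
  have h4 : (Spec (CommRingCat.of L)).basicOpen (p.appLE W ⊤ (topLe h) a) =
      ⊤ ⊓ p ⁻¹ᵁ Z.basicOpen a := Scheme.basicOpen_appLE _ _ _ _ _
  rw [h1, Scheme.basicOpen_zero] at h4
  have h5 : y ∈ (⊤ : (Spec (CommRingCat.of L)).Opens) ⊓ p ⁻¹ᵁ Z.basicOpen a := ⟨trivial, hy⟩
  rw [← h4] at h5
  exact h5.elim

theorem evH_stalk (x : Z) (V : Z.Opens) (hV : x ∈ V) (φ : Z.presheaf.stalk x ⟶ CommRingCat.of L)
    (h : ∀ y, (Spec.map φ ≫ Z.fromSpecStalk x) y ∈ V) :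
    evH (Spec.map φ ≫ Z.fromSpecStalk x) V h = Z.presheaf.germ V x hV ≫ φ := by
  have e₁ : ⊤ ≤ Z.fromSpecStalk x ⁻¹ᵁ V := by
    intro y _
    have h1 : Z.fromSpecStalk x y ∈ Set.range (Z.fromSpecStalk x) := ⟨y, rfl⟩
    rw [Scheme.range_fromSpecStalk] at h1
    exact h1.mem_open V.isOpen hV
  have h1 : (Z.fromSpecStalk x).appLE V ⊤ e₁ = Z.presheaf.germ V x hV ≫ (Scheme.ΓSpecIso _).inv := by
    rw [Scheme.Hom.appLE, Scheme.fromSpecStalk_app hV, Category.assoc, Category.assoc, ← Functor.map_comp]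
    have h3 : ∀ (i : (op ⊤ : (Opens (Spec (Z.presheaf.stalk x)))ᵒᵖ) ⟶ op ⊤),
        (Spec (Z.presheaf.stalk x)).presheaf.map i = 𝟙 _ := fun i => by
      rw [show i = 𝟙 _ from Subsingleton.elim _ _, CategoryTheory.Functor.map_id]
    rw [h3, Category.comp_id]
  have h2 : (Spec.map φ).appLE ⊤ ⊤ (topLe (fun _ => trivial)) ≫ (Scheme.ΓSpecIso (CommRingCat.of L)).hom =
      (Scheme.ΓSpecIso (Z.presheaf.stalk x)).hom ≫ φ := by
    rw [appLE_top]
    exact Scheme.ΓSpecIso_naturality _
  have h3 : (Spec.map φ ≫ Z.fromSpecStalk x).appLE V ⊤ (topLe h) = (Z.fromSpecStalk x).appLE V ⊤ e₁ ≫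
      (Spec.map φ).appLE ⊤ ⊤ (topLe (fun _ => trivial)) := by
    rw [Scheme.Hom.appLE_comp_appLE]
  rw [evH, h3, Category.assoc, h2, h1, Category.assoc, Iso.inv_hom_id_assoc]

/-- Integral elements of `L` come from functions on the normalization. -/
theorem exists_ev_of_isIntegralElem (f : Spec (CommRingCat.of L) ⟶ Z) [QuasiCompact f] [QuasiSeparated f]
    {V : Z.Opens} (hV : IsAffineOpen V) (h' : ∀ x, f x ∈ V)
    (h : ∀ x, f.toNormalization x ∈ f.fromNormalization ⁻¹ᵁ V) (z : L) (hz : (ev f V h').IsIntegralElem z) :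
    ∃ b : Γ(f.normalization, f.fromNormalization ⁻¹ᵁ V), ev f.toNormalization _ h b = z := by
  let _ := (f.app V).hom.toAlgebra
  have e : ⊤ ≤ f ⁻¹ᵁ V := topLe h'
  have e' : (⊤ : (Spec (CommRingCat.of L)).Opens) = f ⁻¹ᵁ V := le_antisymm e le_top
  have hi : IsIso ((Spec (CommRingCat.of L)).presheaf.map (homOfLE e).op) := by
    have : homOfLE e = eqToHom e' := Subsingleton.elim _ _
    rw [this]
    infer_instance
  let w : Γ(Spec (CommRingCat.of L), f ⁻¹ᵁ V) :=
    inv ((Spec (CommRingCat.of L)).presheaf.map (homOfLE e).op) ((Scheme.ΓSpecIso (CommRingCat.of L)).inv z)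
  let θ : Γ(Spec (CommRingCat.of L), f ⁻¹ᵁ V) ⟶ CommRingCat.of L :=
    (Spec (CommRingCat.of L)).presheaf.map (homOfLE e).op ≫ (Scheme.ΓSpecIso (CommRingCat.of L)).hom
  have hθ : Function.Injective θ := (ConcreteCategory.bijective_of_isIso θ).1
  have hw : θ w = z := by
    change ((inv ((Spec (CommRingCat.of L)).presheaf.map (homOfLE e).op)) ≫
      (Spec (CommRingCat.of L)).presheaf.map (homOfLE e).op ≫ (Scheme.ΓSpecIso (CommRingCat.of L)).hom)
        ((Scheme.ΓSpecIso (CommRingCat.of L)).inv z) = z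
    rw [IsIso.inv_hom_id_assoc, ← CommRingCat.comp_apply, Iso.inv_hom_id]
    rfl
  have hev : evH f V h' = f.app V ≫ θ := by
    rw [evH, Scheme.Hom.appLE, Category.assoc]
  have hwi : IsIntegral Γ(Z, V) w := by
    obtain ⟨q, hq, hq'⟩ := hz
    refine ⟨q, hq, hθ ?_⟩
    change θ.hom (q.eval₂ (f.app V).hom w) = θ.hom 0
    have hw' : θ.hom w = z := hw
    rw [map_zero, Polynomial.hom_eval₂, ← hq', hw']
    have hev' : ev f V h' = θ.hom.comp (f.app V).hom := by rw [ev, hev]; rfl
    rw [hev']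
  obtain ⟨b, hb⟩ := (ConcreteCategory.bijective_of_isIso (f.normalizationObjIso hV).hom).2 ⟨w, hwi⟩
  refine ⟨b, ?_⟩
  have h5 : f.toNormalization.appLE (f.fromNormalization ⁻¹ᵁ V) (f ⁻¹ᵁ V)
      (by simp [← Scheme.Hom.comp_preimage]) b = w :=
    (congr($(f.normalizationObjIso_hom_val hV) b)).symm.trans (congrArg Subtype.val hb)
  have h6 : evH f.toNormalization _ h = f.toNormalization.appLE (f.fromNormalization ⁻¹ᵁ V) (f ⁻¹ᵁ V)
      (by simp [← Scheme.Hom.comp_preimage]) ≫ θ := by
    rw [evH, ← Category.assoc, Scheme.Hom.appLE_map]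
  have h7 : ev f.toNormalization _ h b = θ.hom (f.toNormalization.appLE (f.fromNormalization ⁻¹ᵁ V) (f ⁻¹ᵁ V)
      (by simp [← Scheme.Hom.comp_preimage]) b) := congr($h6 b)
  rw [h7, h5]
  exact hw

end Ev

section Pack

variable {C : Scheme.{u}} [IsIntegral C] (L : Type u) [Field L] [Algebra C.functionField L]

/-- The point of `C` with values in `L`. -/
noncomputable abbrev gen : Spec (CommRingCat.of L) ⟶ C :=
  Spec.map (CommRingCat.ofHom (algebraMap C.functionField L)) ≫ C.fromSpecStalk (genericPoint C)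

theorem gen_mem (V : C.Opens) (hV : genericPoint C ∈ V) (x : Spec (CommRingCat.of L)) : gen (C := C) L x ∈ V := by
  have h1 : gen (C := C) L x ∈ Set.range (C.fromSpecStalk (genericPoint C)) :=
    ⟨Spec.map (CommRingCat.ofHom (algebraMap C.functionField L)) x, (Scheme.Hom.comp_apply _ _ _).symm⟩
  rw [Scheme.range_fromSpecStalk] at h1
  exact h1.mem_open V.isOpen hV

theorem evH_gen (V : C.Opens) (hV : genericPoint C ∈ V) :
    evH (gen L) V (gen_mem L V hV) = C.presheaf.germ V (genericPoint C) hV ≫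
      CommRingCat.ofHom (algebraMap C.functionField L) :=
  evH_stalk (genericPoint C) V hV _ _

theorem ev_gen (V : C.Opens) (hV : genericPoint C ∈ V) (a : Γ(C, V)) :
    ev (gen L) V (gen_mem L V hV) a = algebraMap C.functionField L (C.presheaf.germ V (genericPoint C) hV a) :=
  congr($(evH_gen L V hV) a)

instance : QuasiCompact (gen (C := C) L) := by
  have : NoetherianSpace (Spec (CommRingCat.of L)) := inferInstance
  infer_instance

instance : QuasiSeparated (gen (C := C) L) := by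
  have h1 : IsSeparated (gen (C := C) L ≫ terminal.from C) := by
    rw [terminal.comp_from]
    infer_instance
  have h2 : IsSeparated (gen (C := C) L) := IsSeparated.of_comp _ (terminal.from C)
  infer_instance

/-- The normalization in `L`. -/
noncomputable abbrev Nm : Scheme.{u} := (gen (C := C) L).normalization

/-- The projection. -/
noncomputable abbrev proj : Nm (C := C) L ⟶ C := (gen (C := C) L).fromNormalization

/-- The generic point of the normalization. -/
noncomputable abbrev pt : Spec (CommRingCat.of L) ⟶ Nm (C := C) L := (gen (C := C) L).toNormalization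

theorem pt_proj : pt (C := C) L ≫ proj L = gen L := (gen (C := C) L).toNormalization_fromNormalization

theorem gen_eq (x : Spec (CommRingCat.of L)) : gen (C := C) L x = genericPoint C := by
  by_contra hne
  have h1 : gen (C := C) L x ∈ closure {genericPoint C} := by
    rw [genericPoint_closure]
    trivial
  have h2 : gen (C := C) L x ∈ Set.range (C.fromSpecStalk (genericPoint C)) :=
    ⟨Spec.map (CommRingCat.ofHom (algebraMap C.functionField L)) x, (Scheme.Hom.comp_apply _ _ _).symm⟩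
  rw [Scheme.range_fromSpecStalk] at h2
  exact hne (h2.antisymm (specializes_iff_mem_closure.2 h1)).eq

theorem proj_pt (x : Spec (CommRingCat.of L)) : proj (C := C) L (pt L x) = genericPoint C := by
  rw [← Scheme.Hom.comp_apply, pt_proj, gen_eq]

theorem pt_mem {V : C.Opens} (hg : genericPoint C ∈ V) (x : Spec (CommRingCat.of L)) :
    pt (C := C) L x ∈ proj (C := C) L ⁻¹ᵁ V := by
  change proj (C := C) L (pt L x) ∈ V
  rwa [proj_pt]

theorem exists_ev {V : C.Opens} (hV : IsAffineOpen V) (hg : genericPoint C ∈ V) (z : L)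
    (hz : ((algebraMap C.functionField L).comp (C.presheaf.germ V (genericPoint C) hg).hom).IsIntegralElem z) :
    ∃ b : Γ(Nm (C := C) L, proj (C := C) L ⁻¹ᵁ V), ev (pt L) _ (pt_mem L hg) b = z := by
  refine exists_ev_of_isIntegralElem (gen L) hV (gen_mem L V hg) (pt_mem L hg) z ?_
  have h1 : ev (gen L) V (gen_mem L V hg) =
      (algebraMap C.functionField L).comp (C.presheaf.germ V (genericPoint C) hg).hom :=
    RingHom.ext fun a => ev_gen L V hg a
  rw [h1]
  exact hz

instance : IsIntegral (Nm (C := C) L) := inferInstance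

instance : IsDominant (pt (C := C) L) := inferInstance

instance : IsIntegralHom (proj (C := C) L) := inferInstance

theorem isNormalScheme : Pi1.IsNormalScheme (Nm (C := C) L) := by
  obtain ⟨_, h, _⟩ := Groth.Agent.S4448.result C L (algebraMap C.functionField L) (gen L) rfl
  exact h

theorem isFinite_proj [IsNoetherian C] (hC : Pi1.IsNormalScheme C) [FiniteDimensional C.functionField L]
    [Algebra.IsSeparable C.functionField L] : IsFinite (proj (C := C) L) :=
  Groth.Agent.S18426.result hC L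

instance surjective_proj : Surjective (proj (C := C) L) := by
  refine ⟨?_⟩
  rw [← Set.range_eq_univ, ← Set.univ_subset_iff, ← genericPoint_closure (α := C)]
  have h1 : IsClosed (Set.range (proj (C := C) L)) := by
    rw [← Set.image_univ]
    exact (proj (C := C) L).isClosedMap _ isClosed_univ
  refine closure_minimal ?_ h1
  rw [Set.singleton_subset_iff]
  exact ⟨pt L (IsLocalRing.closedPoint L), proj_pt L _⟩

theorem isDominant_gen : IsDominant (gen (C := C) L) := by
  refine ⟨?_⟩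
  rw [DenseRange, dense_iff_closure_eq, ← Set.univ_subset_iff, ← genericPoint_closure (α := C)]
  exact closure_mono (Set.singleton_subset_iff.2 ⟨IsLocalRing.closedPoint L, gen_eq L _⟩)

end Pack

end K324.NormExt
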