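import Groth.Agent.CurvesA.CurveCd
import Groth.Agent.Etbc.H220.DimOneCd
import Groth.Agent.CurvesA.EtFieldAll
import Groth.Agent.CurvesA.EtFieldTr
import Groth.Agent.CurvesA.ClosedPtSep

/-!
# Étale cohomology of sheaves of `ℚ`-vector spaces in dimension one

Sheaves on which all `n > 0` act invertibly have no cohomology in degrees `≥ 1` over fields and no cohomology in
degrees `≥ 2` over one-dimensional Noetherian schemes with separably closed residue fields at closed points.
-/

set_option autoImplicit false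
universe u
open CategoryTheory CategoryTheory.Limits CategoryTheory.Abelian AlgebraicGeometry Opposite

namespace K324.RatCoh

open Groth.Agent.CurvesA Groth.Agent.CurvesA.EtFieldObj Groth.Agent.CurvesA.EtFieldDesc
  Groth.Agent.CurvesA.EtFieldTr Groth.Agent.CurvesA.GenSupp Groth.Agent.CurvesA.PushAcyclic
  Groth.Agent.CurvesA.CohBasic Groth.Agent.CurvesA.CurveCd

/-- All positive integers act invertibly. -/
def Rat {X : Scheme.{u}} (F : EtCoh.Ab X) : Prop := ∀ n : ℕ, 0 < n → IsIso (n • 𝟙 F)

/-- On `Ext`-groups with values in a sheaf of `ℚ`-vector spaces, multiplication by `n > 0` is injective. -/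
theorem ext_eq_zero_of_nsmul {X : Scheme.{u}} {F G : EtCoh.Ab X} (hF : Rat F) (q n : ℕ) (hn : 0 < n)
    (x : Ext G F q) (hx : n • x = 0) : x = 0 := by
  have : IsIso (n • 𝟙 F) := hF n hn
  have h1 : x.comp (Ext.mk₀ (n • 𝟙 F)) (add_zero q) = 0 := by
    have h2 : Ext.mk₀ (n • 𝟙 F) = n • Ext.mk₀ (𝟙 F) := by
      have h3 := map_nsmul (Ext.addEquiv₀ (X := F) (Y := F)).symm n (𝟙 F)
      exact h3
    rw [h2]
    have h4 : x.comp (n • Ext.mk₀ (𝟙 F)) (add_zero q) = n • x.comp (Ext.mk₀ (𝟙 F)) (add_zero q) := by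
      have h5 := map_nsmul (AddMonoidHom.mk' (fun y : Ext F F 0 => x.comp y (add_zero q))
        (fun a b => Ext.comp_add _ _ _ _)) n (Ext.mk₀ (𝟙 F))
      exact h5
    rw [h4, Ext.comp_mk₀_id, hx]
  have h6 : (x.comp (Ext.mk₀ (n • 𝟙 F)) (add_zero q)).comp (Ext.mk₀ (inv (n • 𝟙 F))) (add_zero q) = x := by
    rw [Ext.comp_assoc_of_third_deg_zero, Ext.mk₀_comp_mk₀, IsIso.hom_inv_id, Ext.comp_mk₀_id]
  rw [← h6, h1, Ext.zero_comp]

section Field

variable {K : Type u} [Field K] (F : EtCoh.Ab (Spec (CommRingCat.of K)))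

theorem ext_eq_zero (hF : Rat F) (q : ℕ) (hq : 1 ≤ q)
    (L : Type u) [Field L] [Algebra K L] [FiniteDimensional K L] [Algebra.IsSeparable K L]
    (x : Ext (ZL K L) F q) : x = 0 := by
  obtain ⟨r, rfl⟩ : ∃ r, q = r + 1 := ⟨q - 1, by omega⟩
  obtain ⟨S, hS, hx⟩ := SiteZU.exists_sieve_comp_eq_zero x
  obtain ⟨N, _, _, _, _, f, hf⟩ := exists_galois_mem S hS
  obtain ⟨φ, rfl⟩ := exists_etMap_eq f
  let _ : Algebra L N := φ.toRingHom.toAlgebra
  have : IsScalarTower K L N := IsScalarTower.of_algebraMap_eq fun r => (φ.commutes r).symm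
  have : FiniteDimensional L N := Module.Finite.right K L N
  have : IsGalois L N := IsGalois.tower_top_of_isGalois K L N
  have hφ : ExtStep.res (Zm (can K L N)) F (r + 1) x = 0 := hx _ _ hf
  obtain ⟨t, ht⟩ := exists_transfer (K := K) (L := L) (L' := N) (M := N)
  have h1 := ExtStep.nsmul_eq_zero_of_transfer _ t _ ht F _ x hφ
  exact ext_eq_zero_of_nsmul hF _ _ Module.finrank_pos x h1

theorem isAcyc (hF : Rat F) : IsAcyc F := by
  intro V q hq x
  exact EtFieldAll.ext_eq_zero_all F q (fun L _ _ _ _ x => ext_eq_zero F hF q hq L x) V x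

end Field

theorem rat_pull {X Y : Scheme.{u}} (f : X ⟶ Y) {F : EtCoh.Ab Y} (h : Rat F) :
    Rat ((EtCoh.pull f).obj F) := by
  intro n hn
  have h1 : IsIso (n • 𝟙 F) := h n hn
  have : (EtCoh.pull f).Additive := (EtCoh.pullPushAdj f).left_adjoint_additive
  rw [← CategoryTheory.Functor.map_id, ← Functor.map_nsmul]
  infer_instance

/-- Vanishing in dimension one. -/
theorem subsingleton_H {X : Scheme.{u}} [IsIntegral X] [IsNoetherian X] (hdim : topologicalKrullDim X ≤ 1)
    (hcl : ∀ x : X, IsClosed ({x} : Set X) → IsSepClosed (X.residueField x))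
    (F : EtCoh.Ab X) (hF : Rat F) (n : ℕ) (hn : 2 ≤ n) : Subsingleton (EtCoh.H X F n) := by
  have hpun : PunAcyc X := Groth.Agent.Etbc.H220.DimOneCd.punAcyc hcl
  have hspec := isClosed_of_specializes hdim
  let y : X := genericPoint X
  have hy : ∀ x : X, x ≠ y → IsClosed ({x} : Set X) := fun x hx =>
    hspec y x (genericPoint_specializes x) hx
  let j := X.fromSpecResidueField y
  let G : EtCoh.Ab X := (EtCoh.push j).obj ((EtCoh.pull j).obj F)
  let η : F ⟶ G := (EtCoh.pullPushAdj j).unit.app F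
  have hG : ∀ n, 1 ≤ n → Subsingleton (EtCoh.H X G n) := fun n hn =>
    subsingleton_H_push j (isAcyc _ (rat_pull j hF)) n hn
  have hker : Subsingleton (EtCoh.H X (kernel η) n) := by
    refine hpun _ (fun x hx => ?_) n (by omega)
    refine hy x fun h => ?_
    rw [h] at hx
    exact not_mem_supp_kernel_unit y F hx
  have hcok : ∀ n, 0 < n → Subsingleton (EtCoh.H X (cokernel η) n) := by
    intro n hn
    refine hpun _ (fun x hx => ?_) n hn
    refine hy x fun h => ?_
    rw [h] at hx
    exact not_mem_supp_cokernel_unit y F hx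
  let S₁ : ShortComplex (EtCoh.Ab X) := ShortComplex.mk (Abelian.image.ι η) (cokernel.π η)
    (kernel.condition _)
  have hS₁ : S₁.ShortExact := { exact := ShortComplex.exact_kernel (cokernel.π η) }
  have hIm : Subsingleton (EtCoh.H X (Abelian.image η) n) := by
    obtain ⟨m, rfl⟩ : ∃ m, n = m + 1 := ⟨n - 1, by omega⟩
    exact van_succ hS₁ m (hG (m + 1) (by omega)) (hcok m (by omega))
  let S₂ : ShortComplex (EtCoh.Ab X) := ShortComplex.mk (kernel.ι η) (Abelian.factorThruImage η) (by
    rw [← cancel_mono (Abelian.image.ι η), zero_comp, Category.assoc, Abelian.image.fac,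
      kernel.condition])
  have hS₂ : S₂.ShortExact := by
    refine { exact := ?_, mono_f := inferInstanceAs (Mono (kernel.ι η)),
             epi_g := inferInstanceAs (Epi (Abelian.factorThruImage η)) }
    let α : S₂ ⟶ ShortComplex.mk (kernel.ι η) η (kernel.condition η) :=
      { τ₁ := 𝟙 _
        τ₂ := 𝟙 _
        τ₃ := Abelian.image.ι η
        comm₁₂ := (Category.id_comp _).trans (Category.comp_id _).symm
        comm₂₃ := (Category.id_comp _).trans (Abelian.image.fac η).symm }
    have a1 : Epi α.τ₁ := inferInstanceAs (Epi (𝟙 _))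
    have a2 : IsIso α.τ₂ := inferInstanceAs (IsIso (𝟙 _))
    have a3 : Mono α.τ₃ := inferInstanceAs (Mono (Abelian.image.ι η))
    exact (ShortComplex.exact_iff_of_epi_of_isIso_of_mono α).2 (ShortComplex.exact_kernel η)
  exact van_mid hS₂ n hker hIm

end K324.RatCoh
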