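import Mathlib.AlgebraicGeometry.FunctionField
import Mathlib.AlgebraicGeometry.Noetherian
import Mathlib.AlgebraicGeometry.Properties
import Mathlib.RingTheory.RegularLocalRing.Defs
import Mathlib.RingTheory.DiscreteValuationRing.TFAE
import Mathlib.RingTheory.KrullDimension.Zero
import Mathlib.RingTheory.KrullDimension.LocalRing
import Mathlib.Topology.KrullDimension

/-!
# Local rings of regular integral curves are principal ideal rings
-/

set_option autoImplicit false
universe u

open CategoryTheory CategoryTheory.Limits AlgebraicGeometry Order

namespace K324.RegPid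

theorem stalk_le_dim (X : Scheme.{u}) (x : X) :
    ringKrullDim (X.presheaf.stalk x) ≤ topologicalKrullDim X := by
  have h : topologicalKrullDim X = ⨆ x : X, ringKrullDim (X.presheaf.stalk x) := by
    rw [show topologicalKrullDim X = krullDim X from
      krullDim_eq_of_orderIso irreducibleSetEquivPoints]
    simp_rw [ringKrullDim_stalk_eq_coheight]
    exact krullDim_eq_iSup_coheight
  rw [h]
  exact le_iSup (fun x : X => ringKrullDim (X.presheaf.stalk x)) x

theorem isPrincipalIdealRing {A : Type u} [CommRing A] [IsDomain A] [IsRegularLocalRing A]
    (hd : ringKrullDim A ≤ 1) : IsPrincipalIdealRing A := by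
  by_cases hf : IsField A
  · let := hf.toField
    infer_instance
  · have h1 : ringKrullDim A = 1 := by
      have : ¬ ringKrullDim A ≤ 0 := fun h ↦ by
        have : Ring.KrullDimLE 0 A := Ring.krullDimLE_iff.mpr h
        exact hf Ring.KrullDimLE.isField_of_isDomain
      exact le_antisymm hd (Order.succ_le_of_lt (lt_of_not_ge this))
    have h3 := (IsRegularLocalRing.iff_finrank_cotangentSpace A).mp inferInstance
    rw [h1] at h3
    have : IsDiscreteValuationRing A := by
      rw [← IsLocalRing.finrank_CotangentSpace_eq_one_iff]
      exact_mod_cast h3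
    infer_instance

theorem isPrincipalIdealRing_stalk {X : Scheme.{u}} [IsIntegral X] (hdim : topologicalKrullDim X ≤ 1)
    (hreg : ∀ x : X, IsRegularLocalRing (X.presheaf.stalk x)) (x : X) :
    IsPrincipalIdealRing (X.presheaf.stalk x) := by
  have := hreg x
  exact isPrincipalIdealRing ((stalk_le_dim X x).trans hdim)

end K324.RegPid
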