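import Mathlib.AlgebraicGeometry.AffineScheme
import Mathlib.AlgebraicGeometry.FunctionField
import Mathlib.AlgebraicGeometry.Limits
import Mathlib.AlgebraicGeometry.Cover.Open
import Mathlib.Algebra.MonoidAlgebra.NoZeroDivisors
import Mathlib.Algebra.MonoidAlgebra.Lift

/-!
# Units on the product of a domain with a split torus
-/

set_option autoImplicit false
universe u
open CategoryTheory CategoryTheory.Limits AlgebraicGeometry Opposite

namespace K324.TorusUnits

section Algebra

/-- The units of a group algebra of a group with two unique sums over a domain are trivial. -/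
theorem eq_single_of_isUnit {A : Type*} [CommRing A] [IsDomain A] {G : Type*} [AddCommGroup G]
    [TwoUniqueSums G] (f : AddMonoidAlgebra A G) (hf : IsUnit f) :
    ∃ (e : G) (a : A), IsUnit a ∧ f = AddMonoidAlgebra.single e a := by
  classical
  obtain ⟨g, hg⟩ := isUnit_iff_exists_inv.mp hf
  have hcard : ¬ 1 < f.coeff.support.card * g.coeff.support.card := by
    intro h
    obtain ⟨p1, hp1, p2, hp2, hne, h1, h2⟩ := TwoUniqueSums.uniqueAdd_of_one_lt_card h
    rw [Finset.mem_product] at hp1 hp2
    have key : ∀ p : G × G, p.1 ∈ f.coeff.support → p.2 ∈ g.coeff.support →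
        UniqueAdd f.coeff.support g.coeff.support p.1 p.2 → p.1 + p.2 = 0 := by
      intro p hpf hpg hp
      have := AddMonoidAlgebra.coeff_mul_add_of_uniqueAdd hp
      rw [hg] at this
      by_contra h0
      rw [AddMonoidAlgebra.one_def, AddMonoidAlgebra.coeff_single, Finsupp.single_eq_of_ne h0] at this
      exact mul_ne_zero (Finsupp.mem_support_iff.mp hpf) (Finsupp.mem_support_iff.mp hpg) this.symm
    have e1 := key p1 hp1.1 hp1.2 h1
    have e2 := key p2 hp2.1 hp2.2 h2
    have := h1 hp2.1 hp2.2 (e2.trans e1.symm)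
    exact hne (Prod.ext this.1.symm this.2.symm)
  have hf0 : f ≠ 0 := by
    rintro rfl
    rw [zero_mul] at hg
    exact zero_ne_one hg
  have hg0 : g ≠ 0 := by
    rintro rfl
    rw [mul_zero] at hg
    exact zero_ne_one hg
  have hfc : 0 < f.coeff.support.card := by
    rw [Finset.card_pos, Finsupp.support_nonempty_iff]
    simpa using hf0
  have hgc : 0 < g.coeff.support.card := by
    rw [Finset.card_pos, Finsupp.support_nonempty_iff]
    simpa using hg0
  have hf1 : f.coeff.support.card = 1 := by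
    by_contra h
    apply hcard
    have : 1 < f.coeff.support.card := by omega
    exact Nat.one_lt_mul_iff.mpr ⟨hfc, hgc, Or.inl this⟩
  have hg1 : g.coeff.support.card = 1 := by
    by_contra h
    apply hcard
    have : 1 < g.coeff.support.card := by omega
    exact Nat.one_lt_mul_iff.mpr ⟨hfc, hgc, Or.inr this⟩
  obtain ⟨e, a, ha, hfe⟩ := Finsupp.card_support_eq_one'.mp hf1
  obtain ⟨e', a', ha', hge⟩ := Finsupp.card_support_eq_one'.mp hg1
  have hfe' : f = AddMonoidAlgebra.single e a := by
    apply AddMonoidAlgebra.coeff_injective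
    rw [hfe, AddMonoidAlgebra.coeff_single]
  have hge' : g = AddMonoidAlgebra.single e' a' := by
    apply AddMonoidAlgebra.coeff_injective
    rw [hge, AddMonoidAlgebra.coeff_single]
  refine ⟨e, a, ?_, hfe'⟩
  rw [hfe', hge', AddMonoidAlgebra.single_mul_single, AddMonoidAlgebra.one_def] at hg
  have hg' := congrArg AddMonoidAlgebra.coeff hg
  rw [AddMonoidAlgebra.coeff_single, AddMonoidAlgebra.coeff_single] at hg'
  rcases (Finsupp.single_eq_single_iff _ _ _ _).mp hg' with h | h
  · exact isUnit_iff_exists_inv.mpr ⟨a', h.2⟩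
  · exact absurd h.2 one_ne_zero

/-- Uniqueness of the presentation of a unit. -/
theorem single_inj {A : Type*} [CommRing A] [Nontrivial A] {G : Type*} {e e' : G} {a a' : A}
    (ha : IsUnit a) (h : AddMonoidAlgebra.single e a = AddMonoidAlgebra.single e' a') :
    e = e' ∧ a = a' := by
  have hg' := congrArg AddMonoidAlgebra.coeff h
  rw [AddMonoidAlgebra.coeff_single, AddMonoidAlgebra.coeff_single] at hg'
  rcases (Finsupp.single_eq_single_iff _ _ _ _).mp hg' with h | h
  · exact h
  · exact absurd h.1 ha.ne_zero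

end Algebra

section Geometry

variable (G : Type) [AddCommGroup G]

/-- the group ring over the integers -/
noncomputable abbrev ZG : CommRingCat.{u} := CommRingCat.of (ULift.{u} (AddMonoidAlgebra ℤ G))

/-- the monomial function of exponent `e` -/
noncomputable def mono {Z : Scheme.{u}} (q : Z ⟶ Spec (ZG.{u} G)) (e : G) : Γ(Z, ⊤) :=
  q.appTop ((Scheme.ΓSpecIso (ZG.{u} G)).inv (ULift.up (AddMonoidAlgebra.single e 1)))

/-- pulling back from the base -/
noncomputable def base {Z : Scheme.{u}} {A : CommRingCat.{u}} (p : Z ⟶ Spec A) (a : A) : Γ(Z, ⊤) :=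
  p.appTop ((Scheme.ΓSpecIso A).inv a)

variable {G}

theorem mnl_comp {Z Z' : Scheme.{u}} (f : Z' ⟶ Z) (q : Z ⟶ Spec (ZG.{u} G)) (e : G) :
    f.appTop (mono G q e) = mono G (f ≫ q) e := by
  simp only [mono, Scheme.Hom.comp_appTop, CommRingCat.comp_apply]

theorem base_comp {Z Z' : Scheme.{u}} {A : CommRingCat.{u}} (f : Z' ⟶ Z) (p : Z ⟶ Spec A) (a : A) :
    f.appTop (base p a) = base (f ≫ p) a := by
  simp only [base, Scheme.Hom.comp_appTop, CommRingCat.comp_apply]

theorem mono_zero {Z : Scheme.{u}} (q : Z ⟶ Spec (ZG.{u} G)) : mono G q 0 = 1 := by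
  have : (ULift.up (AddMonoidAlgebra.single (0 : G) (1 : ℤ)) : ULift.{u} (AddMonoidAlgebra ℤ G)) = 1 := rfl
  unfold mono
  rw [this, map_one, map_one]

theorem mono_add {Z : Scheme.{u}} (q : Z ⟶ Spec (ZG.{u} G)) (e e' : G) :
    mono G q (e + e') = mono G q e * mono G q e' := by
  have : (ULift.up (AddMonoidAlgebra.single (e + e') (1 : ℤ)) : ULift.{u} (AddMonoidAlgebra ℤ G)) =
      ULift.up (AddMonoidAlgebra.single e (1 : ℤ)) * ULift.up (AddMonoidAlgebra.single e' (1 : ℤ)) := by
    apply ULift.down_injective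
    change _ = AddMonoidAlgebra.single e (1 : ℤ) * AddMonoidAlgebra.single e' (1 : ℤ)
    rw [AddMonoidAlgebra.single_mul_single, one_mul]
  unfold mono
  rw [this, map_mul, map_mul]

theorem mono_mul_neg {Z : Scheme.{u}} (q : Z ⟶ Spec (ZG.{u} G)) (e : G) :
    mono G q e * mono G q (-e) = 1 := by
  rw [← mono_add, add_neg_cancel, mono_zero]

variable {Z : Scheme.{u}} {A : CommRingCat.{u}} (p : Z ⟶ Spec A) (q : Z ⟶ Spec (ZG.{u} G))

/-- The ring homomorphism `A[G] → Γ(Z)`. -/
noncomputable def psi : AddMonoidAlgebra A G →+* Γ(Z, ⊤) :=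
  AddMonoidAlgebra.liftNCRingHom
    ((p.appTop.hom).comp (Scheme.ΓSpecIso A).inv.hom)
    { toFun := fun e => mono G q e.toAdd
      map_one' := mono_zero q
      map_mul' := fun a b => mono_add q a.toAdd b.toAdd }
    (fun _ _ => Commute.all _ _)

theorem psi_single (e : G) (a : A) :
    psi p q (AddMonoidAlgebra.single e a) = base p a * mono G q e :=
  AddMonoidAlgebra.liftNCRingHom_single _ _ _ _ _

/-- the group algebra over `A` -/
noncomputable abbrev AG (A : CommRingCat.{u}) (G : Type) [AddCommGroup G] : CommRingCat.{u} :=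
  CommRingCat.of (AddMonoidAlgebra A G)

/-- the structure map of the group algebra -/
noncomputable def iA (A : CommRingCat.{u}) (G : Type) [AddCommGroup G] : A ⟶ AG A G :=
  CommRingCat.ofHom AddMonoidAlgebra.singleZeroRingHom

/-- `ℤ[G] → A[G]` -/
noncomputable def iG (A : CommRingCat.{u}) (G : Type) [AddCommGroup G] : ZG.{u} G ⟶ AG A G :=
  CommRingCat.ofHom ((AddMonoidAlgebra.mapRingHom G (Int.castRingHom A)).comp
    (ULift.ringEquiv.toRingHom))

theorem iG_single (e : G) :
    (iG A G).hom (ULift.up (AddMonoidAlgebra.single e 1)) = AddMonoidAlgebra.single e (1 : A) := by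
  change AddMonoidAlgebra.mapRingHom G (Int.castRingHom A) (AddMonoidAlgebra.single e 1) = _
  rw [AddMonoidAlgebra.mapRingHom_single, map_one]

/-- `Z → Spec A[G]` -/
noncomputable def phi : Z ⟶ Spec (AG A G) :=
  Z.toSpecΓ ≫ Spec.map (CommRingCat.ofHom (psi p q))

theorem phi_appTop (c : AG A G) :
    (phi p q).appTop ((Scheme.ΓSpecIso (AG A G)).inv c) = psi p q c := by
  have h : (Scheme.ΓSpecIso (AG A G)).inv ≫ (phi p q).appTop = CommRingCat.ofHom (psi p q) := by
    rw [phi, Scheme.Hom.comp_appTop, ← Category.assoc, ← Scheme.ΓSpecIso_inv_naturality,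
      Category.assoc, Scheme.toSpecΓ_appTop, Iso.inv_hom_id, Category.comp_id]
  exact congrArg (fun m => m.hom c) h

theorem hom_ext_Spec {Z : Scheme.{u}} {R : CommRingCat.{u}} {f g : Z ⟶ Spec R}
    (h : ∀ r : R, f.appTop ((Scheme.ΓSpecIso R).inv r) = g.appTop ((Scheme.ΓSpecIso R).inv r)) :
    f = g := by
  apply ext_of_isAffine
  ext x
  obtain ⟨r, rfl⟩ : ∃ r, (Scheme.ΓSpecIso R).inv r = x :=
    ⟨(Scheme.ΓSpecIso R).hom x, by rw [← CommRingCat.comp_apply, Iso.hom_inv_id]; rfl⟩
  exact h r

theorem Spec_map_appTop {R S : CommRingCat.{u}} (f : R ⟶ S) (r : R) :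
    (Spec.map f).appTop ((Scheme.ΓSpecIso R).inv r) = (Scheme.ΓSpecIso S).inv (f r) := by
  have := Scheme.ΓSpecIso_inv_naturality f
  exact (congrArg (fun m => m.hom r) this).symm

theorem phi_comp_iA : phi p q ≫ Spec.map (iA A G) = p := by
  apply hom_ext_Spec
  intro r
  rw [Scheme.Hom.comp_appTop, CommRingCat.comp_apply, Spec_map_appTop, phi_appTop]
  change psi p q (AddMonoidAlgebra.single 0 r) = _
  rw [psi_single, mono_zero, mul_one]
  rfl

/-- The morphism `ℤ[G] → Γ(Z)` is determined by the monomials. -/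
theorem ringHom_ext_ZG {R : Type*} [CommRing R] {f g : (ZG.{u} G : Type u) →+* R}
    (h : ∀ e : G, f (ULift.up (AddMonoidAlgebra.single e 1)) =
      g (ULift.up (AddMonoidAlgebra.single e 1))) : f = g := by
  have h2 : f.comp (ULift.ringEquiv (R := AddMonoidAlgebra ℤ G)).symm.toRingHom =
      g.comp (ULift.ringEquiv (R := AddMonoidAlgebra ℤ G)).symm.toRingHom := by
    apply AddMonoidAlgebra.ringHom_ext
    · intro n
      have : (AddMonoidAlgebra.single (0 : G) n : AddMonoidAlgebra ℤ G) =
          ((n : ℤ) : AddMonoidAlgebra ℤ G) := by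
        rw [AddMonoidAlgebra.intCast_def]
        simp
      rw [this, map_intCast, map_intCast]
    · intro e
      exact h e
  ext x
  exact DFunLike.congr_fun h2 x.down

theorem phi_comp_iG : phi p q ≫ Spec.map (iG A G) = q := by
  apply hom_ext_Spec
  intro r
  have h : (CommRingCat.Hom.hom ((Scheme.ΓSpecIso (ZG.{u} G)).inv ≫
      (phi p q ≫ Spec.map (iG A G)).appTop)) =
      (CommRingCat.Hom.hom ((Scheme.ΓSpecIso (ZG.{u} G)).inv ≫ q.appTop)) := by
    apply ringHom_ext_ZG
    intro e
    change (phi p q ≫ Spec.map (iG A G)).appTop ((Scheme.ΓSpecIso (ZG.{u} G)).inv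
      (ULift.up (AddMonoidAlgebra.single e 1))) = mono G q e
    rw [Scheme.Hom.comp_appTop, CommRingCat.comp_apply, Spec_map_appTop, phi_appTop]
    have := iG_single (A := A) e
    rw [this, psi_single]
    simp [base]
  exact DFunLike.congr_fun h r

/-- For a product `Z = Spec A × Spec ℤ[G]` the ring homomorphism `A[G] → Γ(Z)` is bijective. -/
theorem bijective_psi (hZ : IsLimit (BinaryFan.mk p q)) : Function.Bijective (psi p q) := by
  let l : Spec (AG A G) ⟶ Z := hZ.lift (BinaryFan.mk (Spec.map (iA A G)) (Spec.map (iG A G)))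
  have hl1 : l ≫ p = Spec.map (iA A G) := hZ.fac _ ⟨WalkingPair.left⟩
  have hl2 : l ≫ q = Spec.map (iG A G) := hZ.fac _ ⟨WalkingPair.right⟩
  have h1 : phi p q ≫ l = 𝟙 Z := by
    apply BinaryFan.IsLimit.hom_ext hZ
    · change (phi p q ≫ l) ≫ p = 𝟙 Z ≫ p
      rw [Category.assoc, hl1, phi_comp_iA, Category.id_comp]
    · change (phi p q ≫ l) ≫ q = 𝟙 Z ≫ q
      rw [Category.assoc, hl2, phi_comp_iG, Category.id_comp]
  have h2 : ∀ c : AG A G, l.appTop (psi p q c) = (Scheme.ΓSpecIso (AG A G)).inv c := by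
    intro c
    have : (l.appTop.hom).comp (psi p q) = (Scheme.ΓSpecIso (AG A G)).inv.hom := by
      apply AddMonoidAlgebra.ringHom_ext
      · intro a
        rw [RingHom.comp_apply, psi_single, mono_zero, mul_one]
        have := base_comp l p a
        rw [hl1] at this
        refine this.trans ?_
        exact Spec_map_appTop (iA A G) a
      · intro e
        rw [RingHom.comp_apply, psi_single]
        have h3 : base p (1 : A) = 1 := by simp [base]
        rw [h3, one_mul]
        have := mnl_comp l q e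
        rw [hl2] at this
        refine this.trans ?_
        refine (Spec_map_appTop (iG A G) _).trans ?_
        exact congrArg _ (iG_single (A := A) e)
    exact DFunLike.congr_fun this c
  constructor
  · intro c d hcd
    have := congrArg (fun z => l.appTop z) hcd
    simp only [h2] at this
    have := congrArg (fun z => (Scheme.ΓSpecIso (AG A G)).hom z) this
    simpa using this
  · intro w
    refine ⟨(Scheme.ΓSpecIso (AG A G)).hom (l.appTop w), ?_⟩
    rw [← phi_appTop]
    have h4 : (Scheme.ΓSpecIso (AG A G)).inv ((Scheme.ΓSpecIso (AG A G)).hom (l.appTop w)) =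
        l.appTop w := by simp
    rw [h4]
    have := congrArg (fun m : Z ⟶ Z => m.appTop w) h1
    simp only [Scheme.Hom.comp_appTop, CommRingCat.comp_apply] at this
    refine this.trans ?_
    simp

/-- Units on `Spec A × Spec ℤ[G]`, `A` a domain. -/
theorem existsUnique_of_isUnit [TwoUniqueSums G] [IsDomain A] (hZ : IsLimit (BinaryFan.mk p q))
    (v : Γ(Z, ⊤)) (hv : IsUnit v) :
    ∃ (a : A) (e : G), IsUnit a ∧ v = base p a * mono G q e := by
  obtain ⟨f, rfl⟩ := (bijective_psi p q hZ).2 v
  obtain ⟨g, hg⟩ := isUnit_iff_exists_inv.mp hv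
  obtain ⟨g', rfl⟩ := (bijective_psi p q hZ).2 g
  have hf : IsUnit f := by
    refine isUnit_iff_exists_inv.mpr ⟨g', (bijective_psi p q hZ).1 ?_⟩
    rw [map_mul, hg, map_one]
  obtain ⟨e, a, ha, rfl⟩ := eq_single_of_isUnit f hf
  exact ⟨a, e, ha, psi_single p q e a⟩

theorem unique_of_isUnit [Nontrivial A] (hZ : IsLimit (BinaryFan.mk p q))
    {a a' : A} {e e' : G} (ha : IsUnit a)
    (h : base p a * mono G q e = base p a' * mono G q e') : e = e' ∧ a = a' := by
  rw [← psi_single, ← psi_single] at h
  exact single_inj ha ((bijective_psi p q hZ).1 h)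

end Geometry

end K324.TorusUnits
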